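import Cfsg.Agent.H732.SelfCent
import Cfsg.Agent.S0822
import Cfsg.Agent.H809.SelfCentUni

/-!
# Self-centralising subgroups of prime order in `PSU n F q` (helper809, task 204)
-/

set_option autoImplicit false

namespace Cfsg.Agent.H809.SelfCent

open Subgroup Cfsg.Agent.H732.SelfCent

theorem psp_four_three {F : Type*} [Field F] [Fintype F] (hF : Fintype.card F = 3) :
    ∃ R : Subgroup (Cfsg.PSp 2 F), Nat.card R = 5 ∧ Subgroup.centralizer (R : Set (Cfsg.PSp 2 F)) = R := by
  have hcard : Nat.card (Cfsg.PSp 2 F) = 2 ^ 6 * 3 ^ 4 * 5 ^ 1 * 7 ^ 0 * 11 ^ 0 * 13 ^ 0 * 17 ^ 0 * 31 ^ 0 := by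
    have h := card_psp hF (n := 2) (by norm_num)
    rw [show Nat.gcd 2 (3 - 1) = 2 by norm_num] at h
    simp only [Finset.prod_range_succ, Finset.prod_range_zero] at h
    norm_num at h ⊢
    omega
  have h5 : Nat.Prime 5 := by norm_num
  have hd : 5 ∣ Nat.card (Cfsg.PSp 2 F) := by rw [hcard]; norm_num
  have ho : orderOf ((3 : ℕ) : ZMod 5) = 4 := ord_eq (by norm_num) (by decide) (by decide)
  refine selfcent_of_orders h5 hd (by rw [hcard]; norm_num) ?_
  intro s hs hsd hne g
  have hsd' := hsd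
  rw [hcard] at hsd'
  rcases small_primes hs hsd' with ⟨rfl, -⟩ | ⟨rfl, -⟩ | ⟨rfl, -⟩ | ⟨rfl, h⟩ | ⟨rfl, h⟩ | ⟨rfl, h⟩ | ⟨rfl, h⟩ | ⟨rfl, h⟩
  · have h2 : (2 : F) ≠ 0 := by
      intro h2
      have : Fact (Nat.Prime 3) := ⟨by norm_num⟩
      have : CharP F 3 := charP_of_card_eq_prime hF
      have := (CharP.cast_eq_zero_iff F 3 2).1 (by exact_mod_cast h2)
      norm_num at this
    have hqe : Nat.card F = 3 := by rw [Nat.card_eq_fintype_card, hF]
    have h5F : ((5 : ℕ) : F) ≠ 0 :=
      Cfsg.Agent.H150.natCast_ne_zero_of_not_dvd h5 (by rw [hqe]; norm_num)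
    have := Cfsg.Agent.H150.psp_far_plus h2 (n := 2) (by norm_num) h5 (by norm_num) h5F
      (by rw [hqe]; exact ho) (by rw [hqe]; norm_num) (by rw [hqe]; norm_num) g
    intro hg
    exact this (by rw [hg])
  · exact psp_not_adj_char (by norm_num) hF le_rfl (by norm_num) h5 (by norm_num) (by norm_num) hd 4 2 ho
      (by decide) (by norm_num) g
  all_goals exact absurd rfl ‹_›

theorem psu_four_two {F : Type*} [Field F] [Fintype F] (hF : Fintype.card F = 2 ^ 2) :
    ∃ R : Subgroup (Cfsg.PSU 4 F 2), Nat.card R = 5 ∧ Subgroup.centralizer (R : Set (Cfsg.PSU 4 F 2)) = R := by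
  obtain ⟨e⟩ := S0822.result (F := F) (K := ZMod 3) (by rw [hF]; norm_num) (ZMod.card 3)
  exact selfcent_congr e.symm (psp_four_three (ZMod.card 3))

/-- Task 204. -/
theorem psu_selfcent (n q r : ℕ) (h : (n, q, r) ∈ [(3,3,7),(3,5,7),(3,7,43),(3,11,37),(4,2,5),(4,3,7),(6,2,11)])
    (F : Type) [Field F] [Fintype F] (hF : Fintype.card F = q ^ 2) :
    ∃ R : Subgroup (Cfsg.PSU n F q), Nat.card R = r ∧ Subgroup.centralizer (R : Set (Cfsg.PSU n F q)) = R := by
  simp only [List.mem_cons, Prod.mk.injEq, List.not_mem_nil, or_false] at h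
  rcases h with ⟨rfl, rfl, rfl⟩ | ⟨rfl, rfl, rfl⟩ | ⟨rfl, rfl, rfl⟩ | ⟨rfl, rfl, rfl⟩ | ⟨rfl, rfl, rfl⟩ |
    ⟨rfl, rfl, rfl⟩ | ⟨rfl, rfl, rfl⟩
  · exact psu_irred hF (by norm_num) (by decide) (by norm_num) (by norm_num) (by norm_num) (by norm_num) (by norm_num)
      (k := 91) (by norm_num) (by norm_num) (by decide) (by norm_num) (by norm_num)
  · exact psu_irred hF (by norm_num) (by decide) (by norm_num) (by norm_num) (by norm_num) (by norm_num) (by norm_num)
      (k := 651) (by norm_num) (by norm_num) (by decide) (by norm_num) (by norm_num)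
  · exact psu_irred hF (by norm_num) (by decide) (by norm_num) (by norm_num) (by norm_num) (by norm_num) (by norm_num)
      (k := 2451) (by norm_num) (by norm_num) (by decide) (by norm_num) (by norm_num)
  · exact psu_irred hF (by norm_num) (by decide) (by norm_num) (by norm_num) (by norm_num) (by norm_num) (by norm_num)
      (k := 14763) (by norm_num) (by norm_num) (by decide) (by norm_num) (by norm_num)
  · exact psu_four_two hF
  · exact psu_block (d := 3) hF (by norm_num) (by decide) (by norm_num) (by norm_num) (by norm_num) (by norm_num)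
      (by norm_num) (by decide) (by norm_num) (by norm_num) (by norm_num)
  · exact psu_block (d := 5) hF (by norm_num) (by decide) (by norm_num) (by norm_num) (by norm_num) (by norm_num)
      (by norm_num) (by decide) (by norm_num) (by norm_num) (by norm_num)

end Cfsg.Agent.H809.SelfCent
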