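import Cfsg.Agent.H809.SylBase
import Cfsg.Agent.H799.MTSyl
import Cfsg.Agent.TypeM.FactsMcL
import Cfsg.Agent.TypeM.FactsLy
import Cfsg.Agent.KFacts.Co3.Syl
import Cfsg.Agent.KFacts.Co3D4.Model
import Cfsg.Agent.KFacts.ON.Qs
import Cfsg.Agent.KFacts.ON.OneClass
import Cfsg.Agent.UniqLoc.Final
import Cfsg.Agent.H256.SporB
import Cfsg.Agent.NotCT.Orders

/-!
# `McL`, `Ly`, `Co3`, `ON`: `p ≥ 5` divides the number of Sylow 2-subgroups (task 1112 for S3932; helper809)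
-/

set_option autoImplicit false

namespace Cfsg.Agent.H809.Syl

open Subgroup Cfsg Cfsg.Agent.H512.SylNum Cfsg.Agent.QTNorm Cfsg.Agent.H256.Spor

universe u

variable {K : Type u} [Group K]

/-! ### `McL`, `Ly` -/

theorem selfN_mcl (h : Spor.IsoMcL K) [Finite K] : SelfN K := by
  obtain ⟨-, -, hcard, ⟨L⟩⟩ := TypeM.FactsMcL.facts h
  exact H799.MTSyl.normalizer_le (by norm_num) (by norm_num) L

theorem selfN_ly (h : Spor.IsoLy K) [Finite K] : SelfN K := by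
  obtain ⟨-, -, hcard, ⟨L⟩⟩ := TypeM.FactsLy.facts h
  exact H799.MTSyl.normalizer_le (by norm_num) (by norm_num) L

theorem dvd_two_mcl (h : Spor.IsoMcL K) {p : ℕ} [hp : Fact p.Prime] (hp5 : 5 ≤ p) (hd : p ∣ Nat.card K) :
    p ∣ Nat.card (Sylow 2 K) := by
  have : Finite K := Nat.finite_of_card_ne_zero (by rw [NotCT.Orders.mcl h]; norm_num)
  exact dvd_two_of_selfN (by lia) (selfN_mcl h) hd

theorem dvd_two_ly (h : Spor.IsoLy K) {p : ℕ} [hp : Fact p.Prime] (hp5 : 5 ≤ p) (hd : p ∣ Nat.card K) :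
    p ∣ Nat.card (Sylow 2 K) := by
  have : Finite K := Nat.finite_of_card_ne_zero (by rw [NotCT.Orders.ly h]; norm_num)
  exact dvd_two_of_selfN (by lia) (selfN_ly h) hd

/-! ### `Co3` -/

open Cfsg.Agent.SporRec.TwoSp6.Sp (S) in
theorem seven_sp : 7 ∣ Nat.card (Sylow 2 S) := by
  have hf7 : Fact (Nat.Prime 7) := ⟨by norm_num⟩
  have hcS : Nat.card S = 1451520 := SporRec.TwoSp6.Sp.card_S
  have hfin : Finite S := Nat.finite_of_card_ne_zero (by rw [hcS]; norm_num)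
  have hs : SelfN S := fun T => (Cfsg.Agent.UniqSheet.SpSix.selfNorm T).le
  exact dvd_two_of_selfN (by norm_num) hs (by rw [hcS]; norm_num)

theorem dvd_two_co3 (h : Spor.IsoCo3 K) {p : ℕ} [hp : Fact p.Prime] (hp5 : 5 ≤ p) (hd : p ∣ Nat.card K) :
    p ∣ Nat.card (Sylow 2 K) := by
  have : Finite K := Nat.finite_of_card_ne_zero (by rw [NotCT.Orders.co3 h]; norm_num)
  have hc : Nat.card K = 495766656000 := NotCT.Orders.co3 h
  obtain ⟨e⟩ := h
  have e' : K ≃* SporRec.Co3.Chain.G3 := e.trans SporRec.Co3.Model.equivCo3.symm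
  have hfG : Finite SporRec.Co3.Chain.G3 := Finite.of_equiv _ e'.toEquiv
  have hcG : Nat.card SporRec.Co3.Chain.G3 = 495766656000 := by rw [← Nat.card_congr e'.toEquiv, hc]
  refine dvd_two_congr e' ?_
  obtain ⟨π, N⟩ := KFacts.Co3D4.exists_NS_G3
  have hu : UInv SporRec.Co3.Ident.Z := uinv_of SporRec.Co3.Ident.Z_sq KFacts.Co3D4.Z_ne KFacts.Co3.Syl.syl
  have hcC : Nat.card (centralizer ({SporRec.Co3.Ident.Z} : Set SporRec.Co3.Chain.G3)) = 2903040 :=
    KFacts.Co3.Syl.card_Z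
  rw [hc] at hd
  obtain ⟨q, hq, hqp⟩ := mem_of_cube hp.out [(2, 10), (3, 7), (5, 3), (7, 1), (11, 1), (23, 1)] (by decide +kernel)
    (by norm_num) hd
  fin_cases hq <;> simp only at hqp <;> subst hqp
  · omega
  · omega
  · exact dvd_two_of_syl hu (k := 3) (by rw [hcG]; norm_num) (by rw [hcC]; norm_num)
  · exact dvd_two_of_hom hu π N.surj seven_sp
  · exact dvd_two_of_syl hu (k := 1) (by rw [hcG]; norm_num) (by rw [hcC]; norm_num)
  · exact dvd_two_of_syl hu (k := 1) (by rw [hcG]; norm_num) (by rw [hcC]; norm_num)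

end Cfsg.Agent.H809.Syl
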