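import Cfsg.Agent.H512.SylTwo
import Cfsg.Agent.H768.SelfFi
import Cfsg.Agent.H781.RowFiA

/-!
# `Fi22`, `Fi23`, `Fi24'`: `p` odd divides the number of Sylow 2-subgroups (tasks 1111, 1113 for S3932; helper809)

The Sylow 2-subgroups are self-normalising.
-/

set_option autoImplicit false

namespace Cfsg.Agent.H809.Syl

open Subgroup Cfsg Cfsg.Agent.H512.SylNum Cfsg.Agent.QTNorm

universe u

variable {K : Type u} [Group K]

theorem selfN_fi22 (h : Spor.IsoFi22 K) : SelfN K := by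
  obtain ⟨e⟩ := h
  have : Finite Spor.Fi22 := Nat.finite_of_card_ne_zero (by
    rw [Cfsg.Agent.Fischer.Fi22Order.card_values.1]; norm_num)
  exact H768.SelfFi.selfN_fi22.congr e.symm

theorem selfN_fi23 (h : Spor.IsoFi23 K) : SelfN K := by
  obtain ⟨e⟩ := h
  have := Cfsg.Agent.KFacts.FiTTh.BasInv.finite
  exact H768.SelfFi.selfN_fi23.congr e.symm

theorem selfN_fi24 (h : Spor.IsoFi24' K) : SelfN K := by
  obtain ⟨e⟩ := h
  have := Cfsg.Agent.H827.JFi.finite
  exact H781.RowFi.selfN_Fi24.congr e.symm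

theorem dvd_two_fi22 (h : Spor.IsoFi22 K) {p : ℕ} [hp : Fact p.Prime] (hp5 : 5 ≤ p) (hd : p ∣ Nat.card K) :
    p ∣ Nat.card (Sylow 2 K) := by
  have : Finite K := by
    obtain ⟨e⟩ := h
    have : Finite Spor.Fi22 := Nat.finite_of_card_ne_zero (by
      rw [Cfsg.Agent.Fischer.Fi22Order.card_values.1]; norm_num)
    exact Finite.of_equiv _ e.symm.toEquiv
  exact dvd_two_of_selfN (by lia) (selfN_fi22 h) hd

theorem dvd_two_fi23 (h : Spor.IsoFi23 K) {p : ℕ} [hp : Fact p.Prime] (hp5 : 5 ≤ p) (hd : p ∣ Nat.card K) :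
    p ∣ Nat.card (Sylow 2 K) := by
  have : Finite K := by
    obtain ⟨e⟩ := h
    have := Cfsg.Agent.KFacts.FiTTh.BasInv.finite
    exact Finite.of_equiv _ e.symm.toEquiv
  exact dvd_two_of_selfN (by lia) (selfN_fi23 h) hd

theorem dvd_two_fi24 (h : Spor.IsoFi24' K) {p : ℕ} [hp : Fact p.Prime] (hp5 : 5 ≤ p) (hd : p ∣ Nat.card K) :
    p ∣ Nat.card (Sylow 2 K) := by
  have : Finite K := by
    obtain ⟨e⟩ := h
    have := Cfsg.Agent.H827.JFi.finite
    exact Finite.of_equiv _ e.symm.toEquiv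
  exact dvd_two_of_selfN (by lia) (selfN_fi24 h) hd

end Cfsg.Agent.H809.Syl
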