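import Cfsg.Agent.H809.SylBase
import Cfsg.Agent.H256.RowS4
import Cfsg.Agent.H813.CoLarge
import Cfsg.Agent.H815.CoZ
import Cfsg.Agent.UniqLoc.Final
import Cfsg.Agent.Schreier.CoTwoStab

/-!
# `Th`, `Co1`, `B`, `M`: `p ≥ 5` divides the number of Sylow 2-subgroups (task 1111 for S3932; helper809)
-/

set_option autoImplicit false

namespace Cfsg.Agent.H809.Syl

open Subgroup Cfsg Cfsg.Agent.H512.SylNum Cfsg.Agent.QTNorm Cfsg.Agent.H256.Spor

universe u

variable {K : Type u} [Group K]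

/-! ### `Th` -/

section Th

open Cfsg.Agent.KFacts.Th

theorem dvd_two_th (h : Spor.IsoTh K) {p : ℕ} [hp : Fact p.Prime] (hp5 : 5 ≤ p) (hd : p ∣ Nat.card K) :
    p ∣ Nat.card (Sylow 2 K) := by
  have hc : Nat.card K = 90745943887872000 := NotCT.Orders.th h
  have : Finite K := Nat.finite_of_card_ne_zero (by rw [hc]; norm_num)
  rw [hc] at hd
  obtain ⟨e⟩ := h
  have hcm : Nat.card Spor.Th = 90745943887872000 := by rw [← Nat.card_congr e.toEquiv, hc]
  have : Finite Spor.Th := Finite.of_equiv _ e.toEquiv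
  refine dvd_two_congr e ?_
  obtain ⟨q, hq, hqp⟩ := mem_of_cube hp.out [(2, 15), (3, 10), (5, 3), (7, 2), (13, 1), (19, 1), (31, 1)]
    (by decide +kernel) (by norm_num) hd
  obtain ⟨π, D⟩ := Main.exists_data Main.ctx
  have hA : Nat.card (alternatingGroup (Fin 9)) = 181440 := by
    rw [nat_card_alternatingGroup, Nat.card_eq_fintype_card, Fintype.card_fin]; rfl
  have key : ∀ k : ℕ, p ^ k ∣ 90745943887872000 → ¬ p ^ k ∣ 181440 → p ∣ Nat.card (Sylow 2 Spor.Th) := fun k h1 h2 =>
    dvd_two_large D.large D.odd π D.surj (fun c => (D.ker c).1) (by lia) (k := k) (by rw [hcm]; exact h1)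
      (by rw [hA]; exact h2)
  fin_cases hq <;> simp only at hqp <;> subst hqp
  · omega
  · omega
  · exact key 3 (by norm_num) (by norm_num)
  · exact key 2 (by norm_num) (by norm_num)
  · exact key 1 (by norm_num) (by norm_num)
  · exact key 1 (by norm_num) (by norm_num)
  · exact key 1 (by norm_num) (by norm_num)

end Th

/-! ### `Co1` -/

section Co1

open Cfsg.Agent.StdG24.ExInst (z Q qg es card_Q)

theorem card_cent_co1 : Nat.card (centralizer ({z} : Set Spor.Co1)) = 89181388800 := by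
  have := H813.CoLarge.finite_co1
  have hn := H813.CoLarge.normal
  obtain ⟨L, hL⟩ := H813.CoLarge.exists_L
  obtain ⟨e⟩ := H813.OmegaCent.nonempty_equiv H813.CoLarge.large L hL H813.CoLarge.perfect H813.CoLarge.card_Q'
    H813.CoLarge.card_le
  have h1 := Subgroup.card_eq_card_quotient_mul_card_subgroup (Q.subgroupOf (centralizer ({z} : Set Spor.Co1)))
  have hle : Q ≤ centralizer ({z} : Set Spor.Co1) := LargeExtra.Nine.ToCent.le_cent H813.CoLarge.large
  rw [Nat.card_congr e.toEquiv, Nat.card_congr (Subgroup.subgroupOfEquivOfLe hle).toEquiv,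
    H813.CoLarge.card_Q', CoOneNWC.OmFacts.card_om8] at h1
  rw [h1]
  norm_num

theorem uinv_co1 : UInv (z : Spor.Co1) := by
  have := H813.CoLarge.finite_co1
  exact uinv_of_large H813.CoLarge.large (H815.CoE.odd_of_card card_cent_co1)

theorem dvd_two_co1 (h : Spor.IsoCo1 K) {p : ℕ} [hp : Fact p.Prime] (hp5 : 5 ≤ p) (hd : p ∣ Nat.card K) :
    p ∣ Nat.card (Sylow 2 K) := by
  have hc : Nat.card K = 4157776806543360000 := NotCT.Orders.co1 h
  have : Finite K := Nat.finite_of_card_ne_zero (by rw [hc]; norm_num)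
  rw [hc] at hd
  obtain ⟨e⟩ := h
  have hcm : Nat.card Spor.Co1 = 4157776806543360000 := by rw [← Nat.card_congr e.toEquiv, hc]
  have := H813.CoLarge.finite_co1
  refine dvd_two_congr e ?_
  obtain ⟨q, hq, hqp⟩ := mem_of_cube hp.out [(2, 21), (3, 9), (5, 4), (7, 2), (11, 1), (13, 1), (23, 1)]
    (by decide +kernel) (by norm_num) hd
  have key : ∀ k : ℕ, p ^ k ∣ 4157776806543360000 → ¬ p ^ k ∣ 89181388800 → p ∣ Nat.card (Sylow 2 Spor.Co1) :=
    fun k h1 h2 => dvd_two_of_syl uinv_co1 (k := k) (by rw [hcm]; exact h1) (by rw [card_cent_co1]; exact h2)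
  fin_cases hq <;> simp only at hqp <;> subst hqp
  · omega
  · omega
  · exact key 4 (by norm_num) (by norm_num)
  · exact key 2 (by norm_num) (by norm_num)
  · exact key 1 (by norm_num) (by norm_num)
  · exact key 1 (by norm_num) (by norm_num)
  · exact key 1 (by norm_num) (by norm_num)

end Co1

/-! ### `B` -/

section B

open Cfsg.Agent.BabyM Cfsg.Agent.BabyM.Model Cfsg.Agent.BabyU.ClosModel
open Cfsg.Agent.BabyU.ClosLane Cfsg.Agent.KFacts

theorem dvd_two_co2 {p : ℕ} [hp : Fact p.Prime] (hp2 : p ≠ 2) (hd : p ∣ Nat.card Spor.Co2) :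
    p ∣ Nat.card (Sylow 2 Spor.Co2) := by
  have hcm : Nat.card Spor.Co2 = 42305421312000 := NotCT.Orders.co2 ⟨MulEquiv.refl _⟩
  have : Finite Spor.Co2 := Nat.finite_of_card_ne_zero (by rw [hcm]; norm_num)
  exact dvd_two_of_selfN hp2 (fun T => (Cfsg.Agent.UniqSheet.Co2.selfNorm T).le) hd

theorem dvd_two_b (h : Spor.IsoB K) {p : ℕ} [hp : Fact p.Prime] (hp5 : 5 ≤ p) (hd : p ∣ Nat.card K) :
    p ∣ Nat.card (Sylow 2 K) := by
  have hc : Nat.card K = 4154781481226426191177580544000000 := NotCT.Orders.b h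
  have : Finite K := Nat.finite_of_card_ne_zero (by rw [hc]; norm_num)
  rw [hc] at hd
  obtain ⟨e⟩ := Cfsg.Agent.KFacts.Baby.RowB.exists_iso h
  have hcm : Nat.card Inst.M.G = 4154781481226426191177580544000000 := by
    rw [Nat.card_congr e.toEquiv, hc]
  have : Finite Inst.M.G := Finite.of_equiv _ e.symm.toEquiv
  refine dvd_two_congr e.symm ?_
  obtain ⟨q, hq, hqp⟩ := mem_of_cube hp.out [(2, 41), (3, 13), (5, 6), (7, 2), (11, 1), (13, 1), (17, 1), (19, 1),
    (23, 1), (31, 1), (47, 1)] (by decide +kernel) (by norm_num) hd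
  obtain ⟨π, hπ, hker⟩ := Baby.Inst.quot A
  have key : ∀ k : ℕ, p ^ k ∣ 4154781481226426191177580544000000 → ¬ p ^ k ∣ 42305421312000 →
      p ∣ Nat.card (Sylow 2 Inst.M.G) := fun k h1 h2 =>
    dvd_two_large (Baby.Inst.large A) (Baby.Inst.odd_index A) π hπ (fun c => (hker c).1) (by lia) (k := k)
      (by rw [hcm]; exact h1) (by rw [A.grp.card]; exact h2)
  have key2 : p ∣ 42305421312000 → p ∣ Nat.card (Sylow 2 Inst.M.G) := by
    intro h1
    obtain ⟨e2⟩ := Schreier.CoTwoStab.exists_equiv _ BabyM.GroupInst.dt_l₀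
    have hfin : Finite GroupInst.K₀ := Nat.finite_of_card_ne_zero (by rw [A.grp.card]; norm_num)
    have hcm2 : Nat.card Spor.Co2 = 42305421312000 := NotCT.Orders.co2 ⟨MulEquiv.refl _⟩
    refine dvd_two_of_hom (uinv_of_large (Baby.Inst.large A) (Baby.Inst.odd_index A)) π hπ ?_
    exact dvd_two_congr (G := GroupInst.K₀) e2 (dvd_two_co2 (by lia) (by rw [hcm2]; exact h1))
  fin_cases hq <;> simp only at hqp <;> subst hqp
  · omega
  · omega
  · exact key 6 (by norm_num) (by norm_num)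
  · exact key 2 (by norm_num) (by norm_num)
  · exact key2 (by norm_num)
  · exact key 1 (by norm_num) (by norm_num)
  · exact key 1 (by norm_num) (by norm_num)
  · exact key 1 (by norm_num) (by norm_num)
  · exact key2 (by norm_num)
  · exact key 1 (by norm_num) (by norm_num)
  · exact key 1 (by norm_num) (by norm_num)

end B

/-! ### `M` -/

section M

open Cfsg.Spor (Co1)
open Cfsg.Agent.MonsterX Cfsg.Agent.MonsterX.Model Cfsg.Agent.MonsterX.MainSimple Cfsg.Agent.MonsterX.MainBasic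

theorem dvd_two_m_model {W : Type} [AddCommGroup W] [Module ℚ W] {M : MData W} (hG : MGroup M Co1) (hR : MRep M)
    (hL : MLat M) (hO : MOrbit M) (hT : MTrans M) (hM : Spor.IsoM M.G) {p : ℕ} [hp : Fact p.Prime] (hp5 : 5 ≤ p)
    (hd : p ∣ Nat.card M.G) : p ∣ Nat.card (Sylow 2 M.G) := by
  have hc : Nat.card M.G = 808017424794512875886459904961710757005754368000000000 := NotCT.Orders.m hM
  have : Finite M.G := Nat.finite_of_card_ne_zero (by rw [hc]; norm_num)
  rw [hc] at hd
  obtain ⟨q, hq, hqp⟩ := mem_of_cube hp.out [(2, 46), (3, 20), (5, 9), (7, 6), (11, 2), (13, 3), (17, 1), (19, 1),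
    (23, 1), (29, 1), (31, 1), (41, 1), (47, 1), (59, 1), (71, 1)] (by decide +kernel) (by norm_num) hd
  obtain ⟨π, D⟩ := Cfsg.Agent.KFacts.MonsterE.data_model hG hR hL hO hT
  have hcm : Nat.card Co1 = 4157776806543360000 := NotCT.Orders.co1 (K := Co1) ⟨MulEquiv.refl _⟩
  have key : ∀ k : ℕ, p ^ k ∣ 808017424794512875886459904961710757005754368000000000 →
      ¬ p ^ k ∣ 4157776806543360000 → p ∣ Nat.card (Sylow 2 M.G) := fun k h1 h2 =>
    dvd_two_large D.large D.odd π D.surj (fun c => (D.ker c).1) (by lia) (k := k)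
      (by rw [hc]; exact h1) (by rw [hcm]; exact h2)
  have key2 : p ∣ 4157776806543360000 → p ∣ Nat.card (Sylow 2 M.G) := by
    intro h1
    refine dvd_two_of_hom (uinv_of_large D.large D.odd) π D.surj ?_
    exact dvd_two_co1 (K := Co1) ⟨MulEquiv.refl _⟩ hp5 (by rw [hcm]; exact h1)
  fin_cases hq <;> simp only at hqp <;> subst hqp
  · omega
  · omega
  · exact key2 (by norm_num)
  · exact key2 (by norm_num)
  · exact key2 (by norm_num)
  · exact key2 (by norm_num)
  · exact key 1 (by norm_num) (by norm_num)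
  · exact key 1 (by norm_num) (by norm_num)
  · exact key2 (by norm_num)
  all_goals exact key 1 (by norm_num) (by norm_num)

theorem dvd_two_m (h : Spor.IsoM K) {p : ℕ} [hp : Fact p.Prime] (hp5 : 5 ≤ p) (hd : p ∣ Nat.card K) :
    p ∣ Nat.card (Sylow 2 K) := by
  have hc : Nat.card K = 808017424794512875886459904961710757005754368000000000 := NotCT.Orders.m h
  have : Finite K := Nat.finite_of_card_ne_zero (by rw [hc]; norm_num)
  obtain ⟨e⟩ := h
  obtain ⟨f⟩ := Cfsg.Agent.MonsterP.Equiv.equiv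
  refine dvd_two_congr (e.trans f) (dvd_two_m_model Instance.mGroup Instance.mRep Instance.mLat InstanceFinal.mOrbit
    Instance.mTrans ⟨f.symm⟩ hp5 ?_)
  rwa [← Nat.card_congr (e.trans f).toEquiv]

end M

end Cfsg.Agent.H809.Syl
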