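import Cfsg.Agent.H809.SylBase
import Cfsg.Agent.KFacts.ON.Qs
import Cfsg.Agent.KFacts.ON.OneClass
import Cfsg.Agent.H256.SporB
import Cfsg.Agent.NotCT.Orders

/-!
# `ON`: `p ≥ 5` divides the number of Sylow 2-subgroups (task 1112 for S3932; helper809)
-/

set_option autoImplicit false

namespace Cfsg.Agent.H809.SylON

open Subgroup Cfsg Cfsg.Agent.H512.SylNum Cfsg.Agent.H256.Spor
open Cfsg.Agent.SporadicB.ON45Word (on)
open Cfsg.Agent.KFacts.ON.Struct Cfsg.Agent.KFacts.ON.OneClass Cfsg.Agent.KFacts.ON.Qs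
open Cfsg.Agent.ONType
open Cfsg.Agent.ONType.TupK (K0)
open Cfsg.Agent.ONType.TupT0 (T0)

universe u

local notation "vv₀" => Cfsg.Agent.KFacts.ON.Words.v

theorem hsyl : ∃ S : Sylow 2 Cfsg.Spor.ON, (S : Subgroup Cfsg.Spor.ON) = TupS.S Cfsg.Agent.KFacts.ON.OneClass.hs ∧
    on .f ∈ S ∧ (∀ x ∈ S, x * on .f = on .f * x) ∧
    ∀ w ∈ S, (∀ x ∈ S, x * w = w * x) → w = 1 ∨ w = on .f := by
  obtain ⟨S, hS⟩ := exists_sylow
  refine ⟨S, hS, ?_, ?_, ?_⟩
  · show on .f ∈ (S : Subgroup _)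
    rw [hS]
    exact (TupS.T0_le_S Cfsg.Agent.KFacts.ON.OneClass.hs) (TupT0.f_mem Cfsg.Agent.KFacts.ON.OneClass.hs)
  · intro x hx
    have hx' : x ∈ (S : Subgroup _) := hx
    rw [hS] at hx'
    exact Cfsg.Agent.KFacts.ON.Struct.mem_K0.1 (TupS.S_le Cfsg.Agent.KFacts.ON.OneClass.hs hx')
  · intro w hw hc
    have hw' : w ∈ (S : Subgroup _) := hw
    rw [hS] at hw'
    exact center_S hw' fun x hx => hc x (by
      show x ∈ (S : Subgroup _)
      rw [hS]; exact hx)

theorem uinv : UInv (on .f) := by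
  obtain ⟨S, -, h1, h2, h3⟩ := hsyl
  exact ⟨ff, f_ne_one, S, h1, h2, fun w hw _ hc => h3 w hw hc⟩

/-- elements of `E` central in `SJ` modulo `⟨v⟩` -/
def D : Subgroup Cfsg.Spor.ON where
  carrier := {y | y ∈ E ∧ ∀ t ∈ SJ, ∃ u ∈ zpowers vv₀, y * t = u * (t * y)}
  one_mem' := ⟨E.one_mem, fun t _ => ⟨1, one_mem _, by group⟩⟩
  mul_mem' := by
    rintro a b ⟨ha, ha'⟩ ⟨hb, hb'⟩
    refine ⟨E.mul_mem ha hb, fun t ht => ?_⟩
    obtain ⟨u, hu, h1⟩ := ha' t ht
    obtain ⟨w, hw, h2⟩ := hb' t ht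
    refine ⟨w * u, mul_mem hw hu, ?_⟩
    have h3 := zv_comm hw (EJ ha)
    calc a * b * t = a * (b * t) := by group
      _ = (a * w) * (t * b) := by rw [h2]; group
      _ = w * (a * t) * b := by rw [h3]; group
      _ = w * u * (t * (a * b)) := by rw [h1]; group
  inv_mem' := by
    rintro a ⟨ha, ha'⟩
    have h : a⁻¹ = a := inv_eq_of_mul_eq_one_right (E_sq ha)
    show a⁻¹ ∈ E ∧ _
    rw [h]
    exact ⟨ha, ha'⟩

theorem D_sq {y : Cfsg.Spor.ON} (hy : y ∈ D) : y * y = 1 := E_sq hy.1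

theorem vf : on .f ∈ zpowers vv₀ := by
  rw [← Cfsg.Agent.KFacts.ON.Words.vv]
  exact mul_mem (mem_zpowers _) (mem_zpowers _)

theorem fD : on .f ∈ D := by
  refine ⟨fE, fun t ht => ⟨1, one_mem _, ?_⟩⟩
  rw [one_mul]
  exact (zv_comm vf (SJ_le ht)).symm

/-- `D ≠ {1, f}` -/
theorem exists_D : ∃ e ∈ D, e ≠ 1 ∧ e ≠ on .f := by
  have hf2 : Fact (Nat.Prime 2) := ⟨Nat.prime_two⟩
  have := finite_ON
  let N : Subgroup SJ := (zpowers vv₀).subgroupOf SJ
  have hN : N.Normal := by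
    refine ⟨fun n hn g => ?_⟩
    have h1 : (n : Cfsg.Spor.ON) ∈ zpowers vv₀ := hn
    have h2 := zv_comm h1 (SJ_le g.2)
    show (g : Cfsg.Spor.ON) * n * (g : Cfsg.Spor.ON)⁻¹ ∈ zpowers vv₀
    rwa [h2, mul_inv_cancel_right]
  have hp : IsPGroup 2 SJ := IsPGroup.of_card (n := 8) (by rw [card_SJ]; norm_num)
  have hq : IsPGroup 2 (SJ ⧸ N) := hp.of_surjective (QuotientGroup.mk' N) (QuotientGroup.mk'_surjective _)
  have hcN : Nat.card N ≤ 4 := by
    have h1 : N.map SJ.subtype ≤ zpowers vv₀ := by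
      rintro _ ⟨n, hn, rfl⟩
      exact hn
    have h2 := Nat.le_of_dvd Nat.card_pos (card_dvd_of_le h1)
    rw [Nat.card_congr (N.equivMapOfInjective SJ.subtype (subtype_injective _)).toEquiv.symm] at h2
    refine h2.trans ?_
    rw [Nat.card_zpowers]
    exact Nat.le_of_dvd (by norm_num) (orderOf_dvd_of_pow_eq_one v4)
  have hnt : Nontrivial (SJ ⧸ N) := by
    rw [← Finite.one_lt_card_iff_nontrivial]
    have h1 := Subgroup.card_eq_card_quotient_mul_card_subgroup N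
    rw [card_SJ] at h1
    by_contra hcon
    have h2 : Nat.card (SJ ⧸ N) ≤ 1 := by omega
    nlinarith
  have hz : Nontrivial (center (SJ ⧸ N)) := hq.center_nontrivial
  obtain ⟨⟨c, hc⟩, hc1⟩ := exists_ne (1 : center (SJ ⧸ N))
  obtain ⟨y, rfl⟩ := QuotientGroup.mk'_surjective N c
  have hyv : (y : Cfsg.Spor.ON) ∉ zpowers vv₀ := by
    intro h
    apply hc1
    apply Subtype.ext
    exact (QuotientGroup.eq_one_iff y).2 h
  have hcen : ∀ t ∈ SJ, ∃ u ∈ zpowers vv₀, (y : Cfsg.Spor.ON) * t = u * (t * y) := by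
    intro t ht
    have h1 := mem_center_iff.1 hc (QuotientGroup.mk' N ⟨t, ht⟩)
    rw [← map_mul, ← map_mul] at h1
    have h2 : ((⟨t, ht⟩ : SJ) * y)⁻¹ * (y * ⟨t, ht⟩) ∈ N := QuotientGroup.eq.1 h1
    have h3 : (t * (y : Cfsg.Spor.ON))⁻¹ * ((y : Cfsg.Spor.ON) * t) ∈ zpowers vv₀ := h2
    refine ⟨_, h3, ?_⟩
    have h4 := zv_comm h3 (J.mul_mem (SJ_le ht) (SJ_le y.2))
    rw [← h4]
    group
  obtain ⟨e, he, h⟩ := center_mod y.2.1 hcen
  have heD : e ∈ D := by
    refine ⟨he, fun t ht => ?_⟩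
    obtain ⟨u, hu, h1⟩ := hcen t ht
    refine ⟨u, hu, ?_⟩
    rcases h with h | h
    · rwa [h] at h1
    · rw [h] at h1
      have h2 := zv_comm (mem_zpowers vv₀) (SJ_le ht)
      have h3 : e * t * vv₀ = u * (t * e) * vv₀ := by
        calc e * t * vv₀ = e * (t * vv₀) := by group
          _ = e * vv₀ * t := by rw [h2]; group
          _ = _ := by rw [h1]; group
      exact mul_right_cancel h3
  refine ⟨e, heD, ?_, ?_⟩
  · rintro rfl
    rcases h with h | h
    · exact hyv (by rw [h]; exact one_mem _)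
    · exact hyv (by rw [h, one_mul]; exact mem_zpowers _)
  · rintro rfl
    rcases h with h | h
    · exact hyv (by rw [h]; exact vf)
    · exact hyv (by rw [h]; exact mul_mem vf (mem_zpowers _))

/-- conjugation by an element of `J` normalising `SJ` leaves `D` invariant -/
theorem conj_D {x : Cfsg.Spor.ON} (hxJ : x ∈ J) (hx : ∀ t ∈ SJ, x * t * x⁻¹ ∈ SJ) (hx' : ∀ t ∈ SJ, x⁻¹ * t * x ∈ SJ)
    {y : Cfsg.Spor.ON} (hy : y ∈ D) : x * y * x⁻¹ ∈ D := by
  have hcen : ∀ t ∈ SJ, ∃ u ∈ zpowers vv₀, x * y * x⁻¹ * t = u * (t * (x * y * x⁻¹)) := by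
    intro t ht
    obtain ⟨u, hu, h1⟩ := hy.2 _ (hx' t ht)
    refine ⟨u, hu, ?_⟩
    have h2 := zv_comm hu hxJ
    calc x * y * x⁻¹ * t = x * (y * (x⁻¹ * t * x)) * x⁻¹ := by group
      _ = (x * u) * (x⁻¹ * t * x * y) * x⁻¹ := by rw [h1]; group
      _ = _ := by rw [h2]; group
  have hyS : x * y * x⁻¹ ∈ SJ := hx y (ESJ hy.1)
  obtain ⟨e, he, h⟩ := center_mod hyS.1 hcen
  have hsq : x * y * x⁻¹ * (x * y * x⁻¹) = 1 := by
    calc x * y * x⁻¹ * (x * y * x⁻¹) = x * (y * y) * x⁻¹ := by group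
      _ = 1 := by rw [D_sq hy]; group
  rcases h with h | h
  · refine ⟨?_, hcen⟩
    rw [h]; exact he
  · exfalso
    rw [h] at hsq
    have h2 := zv_comm (mem_zpowers vv₀) (EJ he)
    apply f_ne_one
    calc on .f = vv₀ * vv₀ := Cfsg.Agent.KFacts.ON.Words.vv.symm
      _ = (e * e) * vv₀ * vv₀ := by rw [E_sq he, one_mul]
      _ = e * (e * vv₀) * vv₀ := by group
      _ = e * (vv₀ * e) * vv₀ := by rw [h2]
      _ = e * vv₀ * (e * vv₀) := by group
      _ = 1 := hsq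

/-- no element of order `5` normalises `S` -/
theorem no_five {x : Cfsg.Spor.ON} (hx5 : orderOf x = 5)
    (hx : ∀ t ∈ TupS.S Cfsg.Agent.KFacts.ON.OneClass.hs, x * t * x⁻¹ ∈ TupS.S Cfsg.Agent.KFacts.ON.OneClass.hs)
    (hx' : ∀ t ∈ TupS.S Cfsg.Agent.KFacts.ON.OneClass.hs, x⁻¹ * t * x ∈ TupS.S Cfsg.Agent.KFacts.ON.OneClass.hs)
    (hxf : x * on .f = on .f * x) : False := by
  have hf2 : Fact (Nat.Prime 2) := ⟨Nat.prime_two⟩
  have hf5 : Fact (Nat.Prime 5) := ⟨by norm_num⟩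
  have := finite_ON
  have hK : x ∈ K0 := Cfsg.Agent.KFacts.ON.Struct.mem_K0.2 hxf
  have h5 : x ^ 5 = 1 := by rw [← hx5]; exact pow_orderOf_eq_one x
  have hJ : x ∈ J := by
    rw [mem_J]
    rcases conj_v hK with h | h
    · calc x * vv₀ = x * vv₀ * x⁻¹ * x := by group
        _ = vv₀ * x := by rw [h]
    · exfalso
      have h1 : x * vv₀ = vv₀⁻¹ * x := by rw [← h]; group
      have h2 : x * vv₀⁻¹ = vv₀ * x := by
        have h3 := congrArg (fun y => y⁻¹) h
        simp only [mul_inv_rev, inv_inv] at h3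
        calc x * vv₀⁻¹ = x * (vv₀⁻¹ * x⁻¹) * x := by group
          _ = vv₀ * x := by rw [h3]
      have h22 : x ^ 2 * vv₀ = vv₀ * x ^ 2 := by
        calc x ^ 2 * vv₀ = x * (x * vv₀) := by rw [pow_two]; group
          _ = (x * vv₀⁻¹) * x := by rw [h1]; group
          _ = vv₀ * x ^ 2 := by rw [h2, pow_two]; group
      have h4 : Commute (x ^ 2) vv₀ := h22
      have h6 : (x ^ 2) ^ 3 = x := by
        rw [← pow_mul, show 2 * 3 = 5 + 1 from rfl, pow_add, h5, one_mul, pow_one]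
      have h7 : Commute x vv₀ := by
        have := h4.pow_left 3
        rwa [h6] at this
      apply v_ne_inv
      have h8 : x * vv₀ * x⁻¹ = vv₀ := by rw [h7.eq]; group
      rw [h] at h8
      exact h8.symm
  have hS1 : ∀ t ∈ SJ, x * t * x⁻¹ ∈ SJ := fun t ht =>
    ⟨hx t ht.1, J.mul_mem (J.mul_mem hJ ht.2) (J.inv_mem hJ)⟩
  have hS2 : ∀ t ∈ SJ, x⁻¹ * t * x ∈ SJ := fun t ht =>
    ⟨hx' t ht.1, J.mul_mem (J.mul_mem (J.inv_mem hJ) ht.2) hJ⟩
  have hmem : ∀ g ∈ zpowers x, ∀ y ∈ D, g * y * g⁻¹ ∈ D := by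
    intro g hg
    have hx1 : x ∈ normalizer (D : Set Cfsg.Spor.ON) := by
      rw [mem_normalizer_iff]
      intro y
      refine ⟨fun hy => conj_D hJ hS1 hS2 hy, fun hy => ?_⟩
      have h1 := conj_D (J.inv_mem hJ) (x := x⁻¹) (by simpa using hS2) (by simpa using hS1) hy
      have e : x⁻¹ * (x * y * x⁻¹) * x⁻¹⁻¹ = y := by group
      rwa [e] at h1
    have h2 := (zpowers_le.2 hx1) hg
    intro y hy
    exact (mem_normalizer_iff.1 h2 y).1 hy
  let act : MulAction (zpowers x) D :=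
    { smul := fun g y => ⟨(g : Cfsg.Spor.ON) * y * (g : Cfsg.Spor.ON)⁻¹, hmem g g.2 y y.2⟩
      one_smul := fun y => Subtype.ext (by
        show (1 : Cfsg.Spor.ON) * y * (1 : Cfsg.Spor.ON)⁻¹ = y
        group)
      mul_smul := fun a b y => Subtype.ext (by
        show ((a : Cfsg.Spor.ON) * b) * y * ((a : Cfsg.Spor.ON) * b)⁻¹ = a * (b * y * (b : Cfsg.Spor.ON)⁻¹) * (a : Cfsg.Spor.ON)⁻¹
        group) }
  have hp : IsPGroup 5 (zpowers x) := IsPGroup.of_card (n := 1) (by rw [Nat.card_zpowers, hx5, pow_one])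
  -- a fixed point other than `1`, `f`
  have hfix : ∃ e ∈ D, e ≠ 1 ∧ e ≠ on .f ∧ x * e = e * x := by
    by_contra hcon
    push Not at hcon
    have hm := hp.card_modEq_card_fixedPoints D
    have h1 : MulAction.fixedPoints (zpowers x) D = {1, ⟨on .f, fD⟩} := by
      ext y
      simp only [Set.mem_insert_iff, Set.mem_singleton_iff, MulAction.mem_fixedPoints]
      constructor
      · intro h
        have h2 : x * y * x⁻¹ = y := congrArg Subtype.val (h ⟨x, mem_zpowers x⟩)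
        by_contra hc
        push Not at hc
        refine hcon y y.2 (fun h => hc.1 (Subtype.ext h)) (fun h => hc.2 (Subtype.ext h)) ?_
        calc x * y = (x * y * x⁻¹) * x := by group
          _ = y * x := by rw [h2]
      · rintro (rfl | rfl) g
        · apply Subtype.ext
          show (g : Cfsg.Spor.ON) * 1 * (g : Cfsg.Spor.ON)⁻¹ = 1
          group
        · apply Subtype.ext
          show (g : Cfsg.Spor.ON) * on .f * (g : Cfsg.Spor.ON)⁻¹ = on .f
          obtain ⟨n, hn⟩ := mem_zpowers_iff.1 g.2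
          have h3 : Commute x (on .f) := hxf
          have h4 : Commute (g : Cfsg.Spor.ON) (on .f) := by
            rw [← hn]; exact h3.zpow_left n
          rw [h4.eq]; group
    have h2 : Nat.card (MulAction.fixedPoints (zpowers x) D) = 2 := by
      rw [h1]
      rw [Nat.card_coe_set_eq, Set.ncard_pair]
      intro h
      exact f_ne_one (congrArg Subtype.val h).symm
    rw [h2] at hm
    have hD2 : IsPGroup 2 D := fun y => ⟨1, Subtype.ext (by rw [pow_one, pow_two]; exact D_sq y.2)⟩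
    obtain ⟨k, hk⟩ := IsPGroup.iff_card.1 hD2
    have hE : Nat.card D ≤ 8 := by
      have h3 : ∀ y : D, ∃ i : Fin 8, ![1, on .f, on .a, on .f * on .a, Cfsg.Agent.KFacts.ON.Words.s3,
          on .f * Cfsg.Agent.KFacts.ON.Words.s3, on .a * Cfsg.Agent.KFacts.ON.Words.s3,
          on .f * on .a * Cfsg.Agent.KFacts.ON.Words.s3] i = (y : Cfsg.Spor.ON) := by
        intro y
        rcases E_cases y.2.1 with h | h | h | h | h | h | h | h
        · exact ⟨0, h.symm⟩
        · exact ⟨1, h.symm⟩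
        · exact ⟨2, h.symm⟩
        · exact ⟨3, h.symm⟩
        · exact ⟨4, h.symm⟩
        · exact ⟨5, h.symm⟩
        · exact ⟨6, h.symm⟩
        · exact ⟨7, h.symm⟩
      choose f hf using h3
      have h4 := Nat.card_le_card_of_injective f (fun a b hab => Subtype.ext (by rw [← hf a, ← hf b, hab]))
      simpa using h4
    have h3 : 3 ≤ Nat.card D := by
      obtain ⟨e, he, he1, hef⟩ := exists_D
      have h4 : Function.Injective (![1, ⟨on .f, fD⟩, ⟨e, he⟩] : Fin 3 → D) := by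
        intro a b hab
        have h01 : (1 : D) ≠ ⟨on .f, fD⟩ := fun h => f_ne_one (congrArg Subtype.val h).symm
        have h02 : (1 : D) ≠ ⟨e, he⟩ := fun h => he1 (congrArg Subtype.val h).symm
        have h12 : (⟨on .f, fD⟩ : D) ≠ ⟨e, he⟩ := fun h => hef (congrArg Subtype.val h).symm
        fin_cases a <;> fin_cases b
        · rfl
        · exact absurd hab h01
        · exact absurd hab h02
        · exact absurd hab.symm h01
        · rfl
        · exact absurd hab h12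
        · exact absurd hab.symm h02
        · exact absurd hab.symm h12
        · rfl
      have h5 := Nat.card_le_card_of_injective _ h4
      simpa using h5
    rw [hk] at hE h3 hm
    have hk3 : k ≤ 3 := by
      by_contra hc
      have : 2 ^ 4 ≤ 2 ^ k := Nat.pow_le_pow_right (by norm_num) (by omega)
      omega
    interval_cases k <;> revert hm h3 <;> decide
  obtain ⟨e, he, he1, hef, hxe⟩ := hfix
  obtain ⟨g, hg, hge⟩ := ((E_conj he.1).resolve_left he1).resolve_left hef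
  have h1 : g⁻¹ * x * g ∈ T0 := by
    apply TupK.mem_T0 Cfsg.Agent.KFacts.ON.OneClass.hs (J_le (J.mul_mem (J.mul_mem (J.inv_mem hg) hJ) hg))
    rw [← hge] at hxe
    calc g⁻¹ * x * g * on .a = g⁻¹ * (x * (g * on .a * g⁻¹)) * g := by group
      _ = g⁻¹ * (g * on .a * g⁻¹ * x) * g := by rw [hxe]
      _ = on .a * (g⁻¹ * x * g) := by group
  have h2 : orderOf (g⁻¹ * x * g) = 5 := by
    have e1 : g⁻¹ * x * g = MulAut.conj g⁻¹ x := by simp
    rw [e1, MulEquiv.orderOf_eq, hx5]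
  have h3 : orderOf (g⁻¹ * x * g) ∣ 256 := by
    have h8 : Nat.card T0 = 256 := TupS.card_T0 Cfsg.Agent.KFacts.ON.OneClass.hs Cfsg.Agent.KFacts.ON.Cent.card_K0
    have h9 := orderOf_dvd_natCard (⟨_, h1⟩ : T0)
    rw [h8, Subgroup.orderOf_mk] at h9
    exact h9
  rw [h2] at h3
  omega

theorem five_on : 5 ∣ Nat.card (Sylow 2 Cfsg.Spor.ON) := by
  have := finite_ON
  have hf2 : Fact (Nat.Prime 2) := ⟨Nat.prime_two⟩
  have hf5 : Fact (Nat.Prime 5) := ⟨by norm_num⟩
  by_contra hn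
  obtain ⟨S, hS, hfS, hfc, hfu⟩ := hsyl
  obtain ⟨P, hP⟩ := exists_norm_at (p := 5) hn S
  have h1 : 5 ∣ Nat.card P := by
    have h2 := P.pow_dvd_card_of_pow_dvd_card (n := 1) (by rw [card_ON]; norm_num)
    simpa using h2
  obtain ⟨⟨x, hxP⟩, hx⟩ := exists_prime_orderOf_dvd_card' 5 h1
  rw [orderOf_mk] at hx
  have hxN := hP hxP
  have hxS : ∀ t ∈ (S : Subgroup Cfsg.Spor.ON), x * t * x⁻¹ ∈ (S : Subgroup Cfsg.Spor.ON) := fun t ht =>
    (mem_normalizer_iff.1 hxN t).1 ht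
  have hxS' : ∀ t ∈ (S : Subgroup Cfsg.Spor.ON), x⁻¹ * t * x ∈ (S : Subgroup Cfsg.Spor.ON) := fun t ht => by
    have := (mem_normalizer_iff.1 (inv_mem hxN) t).1 ht
    rwa [inv_inv] at this
  have hc : x * on .f = on .f * x := by
    rcases hfu (x * on .f * x⁻¹) (hxS _ hfS) (by
      intro y hy
      have h2 := hfc _ (hxS' y hy)
      calc y * (x * on .f * x⁻¹) = x * ((x⁻¹ * y * x) * on .f) * x⁻¹ := by group
        _ = x * (on .f * (x⁻¹ * y * x)) * x⁻¹ := by rw [h2]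
        _ = _ := by group) with h | h
    · exfalso
      apply f_ne_one
      calc on .f = x⁻¹ * (x * on .f * x⁻¹) * x := by group
        _ = 1 := by rw [h]; group
    · calc x * on .f = x * on .f * x⁻¹ * x := by group
        _ = on .f * x := by rw [h]
  rw [hS] at hxS hxS'
  exact no_five hx hxS hxS' hc

theorem card_cent : Nat.card (centralizer ({on .f} : Set Cfsg.Spor.ON)) = 161280 := by
  have h1 : centralizer ({on .f} : Set Cfsg.Spor.ON) = K0 := by
    ext x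
    rw [mem_centralizer_singleton_iff]
    exact Cfsg.Agent.KFacts.ON.Struct.mem_K0.symm
  rw [h1]
  exact Cfsg.Agent.KFacts.ON.Cent.card_K0

theorem dvd_two_on {K : Type u} [Group K] (h : Spor.IsoON K) {p : ℕ} [hp : Fact p.Prime] (hp5 : 5 ≤ p)
    (hd : p ∣ Nat.card K) : p ∣ Nat.card (Sylow 2 K) := by
  have : Finite K := Nat.finite_of_card_ne_zero (by rw [NotCT.Orders.on h]; norm_num)
  rw [NotCT.Orders.on h] at hd
  obtain ⟨e⟩ := h
  refine dvd_two_congr e ?_
  have := finite_ON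
  obtain ⟨q, hq, hqp⟩ := mem_of_cube hp.out [(2, 9), (3, 4), (5, 1), (7, 3), (11, 1), (19, 1), (31, 1)]
    (by decide +kernel) (by norm_num) hd
  fin_cases hq <;> simp only at hqp <;> subst hqp
  · omega
  · omega
  · exact five_on
  · exact dvd_two_of_syl uinv (k := 3) (by rw [card_ON]; norm_num) (by rw [card_cent]; norm_num)
  · exact dvd_two_of_syl uinv (k := 1) (by rw [card_ON]; norm_num) (by rw [card_cent]; norm_num)
  · exact dvd_two_of_syl uinv (k := 1) (by rw [card_ON]; norm_num) (by rw [card_cent]; norm_num)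
  · exact dvd_two_of_syl uinv (k := 1) (by rw [card_ON]; norm_num) (by rw [card_cent]; norm_num)

end Cfsg.Agent.H809.SylON
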