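import Cfsg.Agent.H601.OddDeg.Lab
import Cfsg.Agent.Nodes.CardWitt

/-!
# The orders of the simple root groups of `PSU₄(q)` and `PSU₅(q)`, `q` odd (task 607, for helper601)
-/

set_option autoImplicit false
set_option linter.unusedSectionVars false

namespace Cfsg.Agent.H809.LabPSU

open Cfsg
open CoxeterSystem Cfsg.Agent.ChevalleyStructure.CoxeterGeom Cfsg.Agent.Tits.Roots
  Cfsg.Agent.Nodes.Comb Cfsg.Agent.Nodes.Reps Cfsg.Agent.Nodes.BNOf
  Cfsg.Agent.Nodes.RGDLib Cfsg.Agent.Nodes.TypeC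
open Cfsg.Agent.Nodes Cfsg.Agent.Nodes.WittAll Cfsg.Agent.Nodes.WittU Cfsg.Agent.Nodes.WittInst
  Cfsg.Agent.Nodes.WittRoot Cfsg.Agent.Nodes.WittRGD
  Cfsg.Agent.TitsThree Cfsg.Agent.TitsThree.Siegel Cfsg.Agent.TitsThree.SiegelGen
  Cfsg.Agent.TitsThree.WittFrame Cfsg.Agent.TitsThree.WBridge Cfsg.Agent.TitsThree.WittWeyl
  Cfsg.Agent.TitsThree.FrameCN Cfsg.Agent.TitsThree.LineBorel

section General

variable {F : Type*} [Field F] {V : Type*} [AddCommGroup V] [Module F V] {H : HForm F V}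

/-- the last root group is an isomorphic image of the group of admissible pairs -/
theorem card_le_last {n : ℕ} (hn : 0 < n) {Fr : Frame H (Fin n)} {K : Type*} [Group K] (M : Model Fr K) [Finite K] :
    Nat.card Fr.Adm ≤ Nat.card (WittModel.X M (sr ⟨n - 1, by omega⟩)) := by
  have hnx : nx (⟨n - 1, by omega⟩ : Fin n) = (⟨n - 1, by omega⟩, true) := by
    unfold nx; rw [dif_neg (by simp; omega)]
  have hmem : ∀ a : Fr.Adm, M.φ ⟨Fr.Z (⟨n - 1, by omega⟩, true) a, M.hZ _ _⟩ ∈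
      WittModel.X M (sr ⟨n - 1, by omega⟩) := by
    intro a
    refine ⟨⟨Fr.Z (⟨n - 1, by omega⟩, true) a, M.hZ _ _⟩, ?_, rfl⟩
    change Fr.Z (⟨n - 1, by omega⟩, true) a ∈ rg Fr (sr ⟨n - 1, by omega⟩)
    rw [rg_sr, hnx, PG_self]
    exact ⟨a, rfl⟩
  refine Nat.card_le_card_of_injective (fun a : Fr.Adm =>
    (⟨_, hmem a⟩ : WittModel.X M (sr ⟨n - 1, by omega⟩))) ?_
  intro a b e
  have h1 : M.φ ⟨Fr.Z (⟨n - 1, by omega⟩, true) a, M.hZ _ _⟩ =
      M.φ ⟨Fr.Z (⟨n - 1, by omega⟩, true) b, M.hZ _ _⟩ := congrArg Subtype.val e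
  have h2 : a⁻¹ * b = 1 := by
    apply Cfsg.Agent.Omega.ML.Ex.Lie2.SemiDat.eq_one_of_Z M (x := (⟨n - 1, by omega⟩, true))
    have h3 : (⟨Fr.Z (⟨n - 1, by omega⟩, true) (a⁻¹ * b), M.hZ _ _⟩ : M.I) =
        ⟨Fr.Z (⟨n - 1, by omega⟩, true) a, M.hZ _ _⟩⁻¹ * ⟨Fr.Z (⟨n - 1, by omega⟩, true) b, M.hZ _ _⟩ := by
      apply Subtype.ext
      change Fr.Z (⟨n - 1, by omega⟩, true) (a⁻¹ * b) =
        (Fr.Z (⟨n - 1, by omega⟩, true) a)⁻¹ * Fr.Z (⟨n - 1, by omega⟩, true) b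
      rw [Fr.Z_mul, Fr.Z_inv]
    rw [h3, map_mul, map_inv, h1, inv_mul_cancel]
  exact (inv_mul_eq_one.1 h2)

end General

section Unitary

open Cfsg.Agent.LieClassical.HermBasic Cfsg.Agent.TitsThree.KSideU

variable {F : Type*} [Field F] [Fintype F] {q N : ℕ} (hF : Fintype.card F = q ^ 2)

include hF

/-- the datum with different orders, given the orders -/
theorem lab_of {p : ℕ} [Fact p.Prime] [CharP F p] (hp2 : p ≠ 2) (hN3 : 3 ≤ N) (W : WFrame (PU hF N) 2)
    (hne : Nat.card (toFrame W).Adm ≠ Nat.card F) :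
    Cfsg.Agent.H601.OddDeg.LabT p (CoxeterMatrix.B 2) (PSU N F q) := by
  obtain ⟨p0, hp0, -⟩ := exists_adm hF W
  have := Omega.ML.Ex.Typ.finite_adm (toFrame W)
  have hfin : Finite (PSU N F q) := inferInstance
  let M := KInstU.model hF hN3 W
  refine ⟨Nodes.TypeC.A 2, Nodes.TypeC.isCartan 2, _, _, _,
    Nodes.TypeC.finite_W (CoxeterMatrix.B 2).toCoxeterSystem,
    rgdC_model M (AmbT.of_amb (amb_U hF W) p) hp0 _, WittModel.G1_eq_top _ (by omega) _, ?_⟩
  have h1 : Nat.card (WittModel.X M (sr 0)) = Nat.card F := by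
    refine Nodes.CardWitt.card_X_model M (amb_U hF W) hp0 ((Fact.out : p.Prime).odd_of_ne_two hp2)
      (a := ((0 : Fin 2), true)) (b := ((1 : Fin 2), false)) (by decide) ?_
    rw [ee_sr]
    rfl
  have h2 : Nat.card (WittModel.X M (sr 1)) = Nat.card (toFrame W).Adm :=
    le_antisymm (Omega.ML.Ex.Typ.card_last (by omega : 0 < 2) M) (card_le_last (by omega : 0 < 2) M)
  rw [h1, h2]
  exact hne.symm

end Unitary

section Main

open Cfsg.Agent.LieClassical.HermBasic Cfsg.Agent.TitsThree.KSideU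

theorem lab_psu4 {F : Type} [Field F] [Fintype F] {q : ℕ} (hF : Fintype.card F = q ^ 2) {p : ℕ} [Fact p.Prime]
    [CharP F p] (hp2 : p ≠ 2) : Cfsg.Agent.H601.OddDeg.LabT p (CoxeterMatrix.B 2) (Cfsg.PSU 4 F q) := by
  obtain ⟨W, hW⟩ := exists_wframe_even (N := 4) hF (m := 2) rfl
  refine lab_of hF hp2 (by omega) W ?_
  have h1 : Nat.card (toFrame W).V0 ≤ 1 := by
    change Nat.card W.V0 ≤ 1
    rw [hW]
    exact le_of_eq Nat.card_unique
  have h2 := (Omega.ML.Ex.Typ.card_adm_le (toFrame W) h1 (Omega.ML.Ex.Typ.card_ok_le hF W)).trans (by rw [one_mul])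
  have h3 := Omega.ML.Ex.Typ.two_le_q hF
  rw [Nat.card_eq_fintype_card (α := F), hF]
  nlinarith

theorem lab_psu5 {F : Type} [Field F] [Fintype F] {q : ℕ} (hF : Fintype.card F = q ^ 2) {p : ℕ} [Fact p.Prime]
    [CharP F p] (hp2 : p ≠ 2) : Cfsg.Agent.H601.OddDeg.LabT p (CoxeterMatrix.B 2) (Cfsg.PSU 5 F q) := by
  classical
  obtain ⟨W, d, hdd, hW⟩ := exists_wframe_odd (N := 5) hF (m := 2) rfl
  refine lab_of hF hp2 (by omega) W ?_
  have := Omega.ML.Ex.Typ.finite_adm (toFrame W)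
  obtain ⟨c0, hc0, hne⟩ := exists_ok_ne (N := 5) hF
  have hd0 : d ≠ 0 := by
    rintro rfl
    rw [herm_zero_left] at hdd
    exact zero_ne_one hdd
  choose f hf using (PU hF 5).ex
  have hmemW : ∀ a : F, a • d ∈ W.V0 := fun a => by
    rw [hW]
    exact Submodule.smul_mem _ _ (Submodule.mem_span_singleton_self d)
  have hadd : ∀ w c, (PU hF 5).ok w c → (PU hF 5).ok w (c + c0) := by
    intro w c h
    rw [ok_iff] at h hc0 ⊢
    rw [herm_zero_left, neg_zero] at hc0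
    rw [add_pow_q hF]
    linear_combination h + hc0
  let g : F × Bool → (toFrame W).Adm := fun x =>
    if x.2 then ⟨x.1 • d, f (x.1 • d) + c0, hmemW _, hadd _ _ (hf _)⟩ else ⟨x.1 • d, f (x.1 • d), hmemW _, hf _⟩
  have hg : Function.Injective g := by
    rintro ⟨a, x⟩ ⟨b, y⟩ e
    have hw : ∀ z, (g z).w = z.1 • d := by
      rintro ⟨z, b⟩
      cases b <;> rfl
    have h1 : a • d = b • d := by
      have h2 := congrArg Frame.Adm.w e
      rw [hw, hw] at h2
      exact h2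
    obtain rfl : a = b := by
      by_contra h
      have h3 : (a - b) • d = 0 := by rw [sub_smul, h1, sub_self]
      exact hd0 ((smul_eq_zero.1 h3).resolve_left (sub_ne_zero.2 h))
    have hc := congrArg Frame.Adm.c e
    cases x <;> cases y
    · rfl
    · exfalso
      change f (a • d) = f (a • d) + c0 at hc
      exact hne (left_eq_add.1 hc)
    · exfalso
      change f (a • d) + c0 = f (a • d) at hc
      exact hne (add_eq_left.1 hc)
    · rfl
  have h1 := Nat.card_le_card_of_injective g hg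
  rw [Nat.card_prod] at h1
  have h2 : Nat.card Bool = 2 := by simp
  have h3 : 0 < Nat.card F := Nat.card_pos
  rw [h2] at h1
  omega

end Main

end Cfsg.Agent.H809.LabPSU
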