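import Cfsg.Agent.H601.OddDeg.Lab
import Cfsg.Agent.Nodes.RGDTwD4

/-!
# The orders of the simple root groups of `³D₄(q)` (task 608, for helper601)

`|X (α₀)| ≤ q`, `|X (α₁)| ≥ q³`.
-/

set_option autoImplicit false
set_option linter.unusedSectionVars false

namespace Cfsg.Agent.H809.LabTwD4

open CoxeterSystem Cfsg.Agent.ChevalleyStructure.CoxeterGeom Cfsg.Agent.Tits.Roots Cfsg.Agent.Tits.Core
  Cfsg.Agent.Nodes.BNOf Cfsg.Agent.Nodes.RGDTwGen Cfsg.Agent.Nodes.RGDChev Cfsg.Agent.Nodes.RGDFold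
open Cfsg.Lie Cfsg.Agent.ChevalleyStructure
  Cfsg.Agent.ChevalleyStructure.TwistedU Cfsg.Agent.ChevalleyStructure.TwistedFix
open Cfsg.Agent.ChevalleyStructure.D4Comm
open Cfsg.Agent.ChevalleyStructure.D4Pos (lprod_inj)
open Cfsg.Agent.ChevalleyStructure.GraphSymm
open Cfsg.Agent.ChevalleyStructure.D4U Cfsg.Agent.ChevalleyStructure.D4Twisted
open Cfsg.Agent.ChevalleyStructure.D4Fixed (sig)
open Cfsg.Agent.Nodes.RGDTwD4

variable {K : Type} [Field K] [Fintype K] {q : ℕ} {φ : K →+* K}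

/-- the equation `t ^ q = t` has at most `q` solutions -/
theorem card_fix_le (hq : 2 ≤ q) : Nat.card {t : K // t ^ q = t} ≤ q := by
  classical
  let f : Polynomial K := Polynomial.X ^ q - Polynomial.X
  have hf : f.natDegree = q := by
    have hdeg : (Polynomial.X : Polynomial K).natDegree < (Polynomial.X ^ q : Polynomial K).natDegree := by
      rw [Polynomial.natDegree_X, Polynomial.natDegree_X_pow]; omega
    rw [show f = Polynomial.X ^ q - Polynomial.X from rfl, Polynomial.natDegree_sub_eq_left_of_natDegree_lt hdeg,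
      Polynomial.natDegree_X_pow]
  have hf0 : f ≠ 0 := by
    intro h
    rw [h, Polynomial.natDegree_zero] at hf
    omega
  have h1 : ∀ c : K, c ^ q = c → c ∈ f.roots.toFinset := by
    intro c hc
    rw [Multiset.mem_toFinset, Polynomial.mem_roots hf0, Polynomial.IsRoot.def]
    simp only [f, Polynomial.eval_sub, Polynomial.eval_pow, Polynomial.eval_X]
    rw [hc, sub_self]
  have h2 : Nat.card {c : K // c ^ q = c} ≤ Nat.card f.roots.toFinset :=
    Nat.card_le_card_of_injective (fun c => (⟨c.1, h1 c.1 c.2⟩ : f.roots.toFinset)) fun x y e =>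
      Subtype.ext (congrArg (fun z => (z.1 : K)) e)
  refine h2.trans ?_
  rw [Nat.card_eq_fintype_card, Fintype.card_coe]
  exact (Multiset.toFinset_card_le _).trans ((Polynomial.card_roots' f).trans hf.le)

theorem card_X0_le (hq : 2 ≤ q) (hφ : ∀ x, φ x = x ^ q) : Nat.card (X φ q (sr 0)) ≤ q := by
  classical
  have key : ∀ x : X φ q (sr 0), ∃ t : K, t ^ q = t ∧ ((x : ↥(twistedD4 K q)) : GL chevD4.Idx K) = xG 14 t := by
    rintro ⟨x, hx⟩
    have h1 : (x : GL chevD4.Idx K) ∈ R chevD4 hp K J (sig φ) (sr 0) := hx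
    rw [R0] at h1
    obtain ⟨t, ht, e⟩ := RS_14_fix h1.1 h1.2
    exact ⟨t, (hφ t).symm.trans ht, e⟩
  choose f hf using key
  refine (Nat.card_le_card_of_injective (β := {t : K // t ^ q = t}) (fun x => ⟨f x, (hf x).1⟩) ?_).trans
    (card_fix_le hq)
  intro x y e
  have h1 : f x = f y := congrArg Subtype.val e
  apply Subtype.ext
  apply Subtype.ext
  rw [(hf x).2, (hf y).2, h1]

theorem card_le_X1 (hφ : ∀ x, φ x = x ^ q) (hK : Fintype.card K = q ^ 3) :
    Fintype.card K ≤ Nat.card (X φ q (sr 1)) := by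
  classical
  have hle := D4Fixed.twisted_le_fix hK hφ
  have : Finite (GL chevD4.Idx K) := inferInstance
  have hmem : ∀ t : K, (⟨D4Fixed.X φ t, D4Fixed.X_mem hφ t⟩ : ↥(twistedD4 K q)) ∈ X φ q (sr 1) := by
    intro t
    show D4Fixed.X φ t ∈ R chevD4 hp K J (sig φ) (sr 1)
    rw [R1]
    exact ⟨X_mem_RS t, hle (D4Fixed.X_mem hφ t)⟩
  rw [← Nat.card_eq_fintype_card]
  refine Nat.card_le_card_of_injective (fun t : K => (⟨_, hmem t⟩ : X φ q (sr 1))) ?_
  intro s t e
  have h1 : D4Fixed.X φ s = D4Fixed.X φ t := congrArg (fun z => ((z.1 : ↥(twistedD4 K q)) : GL chevD4.Idx K)) e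
  unfold D4Fixed.X at h1
  rw [xU_eq, xU_eq, xU_eq, xU_eq, xU_eq, xU_eq] at h1
  let ff : K → ℕ → K := fun t k => if k = 18 then t else if k = 13 then φ t else φ (φ t)
  have h3 := lprod_inj [18, 13, 12] (by decide +kernel) (t := ff s) (t' := ff t) (by
    rw [lprod_cons, lprod_cons, lprod_cons, lprod_nil, mul_one, ← mul_assoc,
      lprod_cons, lprod_cons, lprod_cons, lprod_nil, mul_one, ← mul_assoc]
    simpa [ff] using h1) 18 (by simp)
  simpa [ff] using h3

/-- **the simple root groups of `³D₄(q)` have different orders** -/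
theorem lab_twD4 {K : Type} [Field K] [Fintype K] {q : ℕ} (hq : IsPrimePow q)
    (hK : Fintype.card K = q ^ 3) (p : ℕ) [CharP K p] :
    Cfsg.Agent.H601.OddDeg.LabT p CoxeterMatrix.G₂ ↥(Cfsg.Lie.twistedD4 K q) := by
  have : Fact p.Prime := ⟨CharP.char_is_prime K p⟩
  obtain ⟨φ, hφ⟩ := ChevalleyStructure.D4Fixed.exists_frob hq hK
  refine ⟨_, Nodes.RGDTwD4.isCartan, _, _, _,
    Nodes.RGDFold.finite_W (hp := Nodes.RGDTwD4.hp) CoxeterMatrix.G₂.toCoxeterSystem Nodes.RGDTwD4.isCartan Nodes.RGDTwD4.foldData,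
    Nodes.RGDTwD4.rgd _ hK hφ p, Nodes.RGDTwD4.G1_eq_top _ hK hφ, ?_⟩
  have hq2 : 2 ≤ q := hq.two_le
  have h0 := card_X0_le hq2 hφ
  have h1 := card_le_X1 hφ hK
  have h2 : q < q ^ 3 := by
    calc q = q ^ 1 := (pow_one q).symm
      _ < q ^ 3 := Nat.pow_lt_pow_right hq2 (by norm_num)
  exact ne_of_lt (by omega)

end Cfsg.Agent.H809.LabTwD4
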