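import Mathlib
import Cfsg.Agent.BpSpor.Act

/-!
# The odd action lemma (helper809, task 442 for S4545)

A group `A` of odd order acting faithfully on an abelian 2-group `V` of order at most 32 has an orbit with a
small stabiliser.
-/

set_option autoImplicit false
set_option linter.unusedSectionVars false

namespace Cfsg.Agent.H809.OddAct

open Subgroup

variable {V : Type*} [CommGroup V] [Finite V]

/-- the stabiliser of `u` in `A` -/
def St (A : Subgroup (MulAut V)) (u : V) : Subgroup (MulAut V) where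
  carrier := {s | s ∈ A ∧ s u = u}
  one_mem' := ⟨A.one_mem, rfl⟩
  mul_mem' := by
    rintro a b ⟨ha, ha'⟩ ⟨hb, hb'⟩
    exact ⟨A.mul_mem ha hb, by rw [MulAut.mul_apply, hb', ha']⟩
  inv_mem' := by
    rintro a ⟨ha, ha'⟩
    refine ⟨A.inv_mem ha, ?_⟩
    conv_lhs => rw [← ha']
    exact MulAut.inv_apply_self V a u

theorem mem_St {A : Subgroup (MulAut V)} {u : V} {s : MulAut V} : s ∈ St A u ↔ s ∈ A ∧ s u = u := Iff.rfl

theorem St_le (A : Subgroup (MulAut V)) (u : V) : St A u ≤ A := fun _ h => h.1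

/-- fixed elements -/
def Fx (B : Subgroup (MulAut V)) : Subgroup V where
  carrier := {v | ∀ b ∈ B, b v = v}
  one_mem' := fun b _ => map_one b
  mul_mem' := by
    intro v w hv hw b hb
    rw [map_mul, hv b hb, hw b hb]
  inv_mem' := by
    intro v hv b hb
    rw [map_inv, hv b hb]

theorem mem_Fx {B : Subgroup (MulAut V)} {v : V} : v ∈ Fx B ↔ ∀ b ∈ B, b v = v := Iff.rfl

/-- commutators -/
def Cm (B : Subgroup (MulAut V)) : Subgroup V := closure {x | ∃ b ∈ B, ∃ v, x = b v * v⁻¹}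

theorem mem_Cm (B : Subgroup (MulAut V)) {b : MulAut V} (hb : b ∈ B) (v : V) : b v * v⁻¹ ∈ Cm B :=
  subset_closure ⟨b, hb, v, rfl⟩

theorem fx_cm {B : Subgroup (MulAut V)} (hV : IsPGroup 2 V) (hB : Odd (Nat.card B)) {c : V} (h1 : c ∈ Fx B)
    (h2 : c ∈ Cm B) : c = 1 := by
  classical
  have : Finite B := Finite.of_finite_univ (Set.toFinite _)
  have := Fintype.ofFinite B
  let N : V →* V :=
    { toFun := fun v => ∏ b : B, (b : MulAut V) v
      map_one' := Finset.prod_eq_one fun b _ => map_one _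
      map_mul' := fun v w => by rw [← Finset.prod_mul_distrib]; exact Finset.prod_congr rfl fun b _ => map_mul _ _ _ }
  have hN : ∀ v, N v = ∏ b : B, (b : MulAut V) v := fun _ => rfl
  have h3 : ∀ x ∈ Cm B, N x = 1 := by
    intro x hx
    induction hx using closure_induction with
    | mem x hx =>
      obtain ⟨b, hb, v, rfl⟩ := hx
      have h4 : N (b v) = N v := by
        rw [hN, hN]
        exact Fintype.prod_equiv (Equiv.mulRight (⟨b, hb⟩ : B)) _ _ fun c => rfl
      rw [map_mul, h4, map_inv, mul_inv_cancel]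
    | one => exact map_one _
    | mul x y _ _ hx hy => rw [map_mul, hx, hy, mul_one]
    | inv x _ hx => rw [map_inv, hx, inv_one]
  have h4 : c ^ Nat.card B = 1 := by
    rw [← h3 c h2, hN, Finset.prod_congr rfl fun b _ => h1 b.1 b.2, Finset.prod_const, Finset.card_univ,
      Nat.card_eq_fintype_card]
  obtain ⟨k, hk⟩ := hV c
  have h5 : orderOf c ∣ 1 := by
    have h6 : Nat.Coprime (Nat.card B) (2 ^ k) := by
      apply Nat.Coprime.pow_right
      exact Nat.coprime_two_right.2 hB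
    rw [← Nat.Coprime.gcd_eq_one h6]
    exact Nat.dvd_gcd (orderOf_dvd_of_pow_eq_one h4) (orderOf_dvd_of_pow_eq_one hk)
  exact orderOf_eq_one_iff.1 (Nat.dvd_one.1 h5)

/-- elements normalising `B` -/
theorem fx_inv {B : Subgroup (MulAut V)} {a : MulAut V} (ha : ∀ b ∈ B, a⁻¹ * b * a ∈ B) {v : V} (hv : v ∈ Fx B) :
    a v ∈ Fx B := by
  intro b hb
  have h1 := hv _ (ha b hb)
  rw [MulAut.mul_apply, MulAut.mul_apply] at h1
  have h2 := congrArg a h1
  rwa [MulAut.apply_inv_self] at h2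

theorem cm_inv {B : Subgroup (MulAut V)} {a : MulAut V} (ha : ∀ b ∈ B, a * b * a⁻¹ ∈ B) {v : V} (hv : v ∈ Cm B) :
    a v ∈ Cm B := by
  have h : Cm B ≤ (Cm B).comap (a : V →* V) := by
    rw [Cm, closure_le]
    rintro x ⟨b, hb, v, rfl⟩
    show a (b v * v⁻¹) ∈ Cm B
    have h1 : a (b v * v⁻¹) = (a * b * a⁻¹) (a v) * (a v)⁻¹ := by
      rw [map_mul, map_inv, MulAut.mul_apply, MulAut.mul_apply, MulAut.inv_apply_self]
    rw [h1]
    exact mem_Cm B (ha b hb) _
  exact h hv

theorem split {B : Subgroup (MulAut V)} (hV : IsPGroup 2 V) (hB : Odd (Nat.card B)) {a : MulAut V}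
    (ha : ∀ b ∈ B, a * b * a⁻¹ ∈ B) (ha' : ∀ b ∈ B, a⁻¹ * b * a ∈ B) {u w : V} (hu : u ∈ Fx B) (hw : w ∈ Cm B)
    (h : a (u * w) = u * w) : a u = u ∧ a w = w := by
  have h1 : a u * u⁻¹ = w * (a w)⁻¹ := by
    rw [map_mul] at h
    rw [mul_inv_eq_iff_eq_mul, mul_comm w, mul_assoc, mul_comm w, ← h, mul_comm (a u), inv_mul_cancel_left]
  have h2 : a u * u⁻¹ = 1 := by
    apply fx_cm hV hB
    · exact (Fx B).mul_mem (fx_inv ha' hu) ((Fx B).inv_mem hu)
    · rw [h1]
      exact (Cm B).mul_mem hw ((Cm B).inv_mem (cm_inv ha hw))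
  rw [h2] at h1
  exact ⟨mul_inv_eq_one.1 h2, (mul_inv_eq_one.1 h1.symm).symm⟩

theorem eq_one_of_fx {B : Subgroup (MulAut V)} (h : ∀ v, v ∈ Fx B) : B = ⊥ := by
  rw [eq_bot_iff]
  intro b hb
  rw [mem_bot]
  apply MulEquiv.ext
  intro v
  exact h v b hb

theorem exists_cm_ne {B : Subgroup (MulAut V)} (h : B ≠ ⊥) : ∃ w ∈ Cm B, w ≠ 1 := by
  by_contra hcon
  push Not at hcon
  apply h
  apply eq_one_of_fx
  intro v b hb
  exact mul_inv_eq_one.1 (hcon _ (mem_Cm B hb v))

/-- an abelian group has a regular orbit -/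
theorem exists_regular (hV : IsPGroup 2 V) {A : Subgroup (MulAut V)} (hA : Odd (Nat.card A))
    (hc : ∀ a ∈ A, ∀ b ∈ A, a * b = b * a) : ∃ u : V, St A u = ⊥ := by
  classical
  have hfin : Finite (MulAut V) := inferInstance
  obtain ⟨u, hu⟩ : ∃ u : V, ∀ v, Nat.card (St A u) ≤ Nat.card (St A v) := Finite.exists_min (fun u => Nat.card (St A u))
  refine ⟨u, ?_⟩
  by_contra hne
  obtain ⟨w, hw, hw1⟩ := exists_cm_ne hne
  have hodd : Odd (Nat.card (St A u)) := Odd.of_dvd_nat hA (card_dvd_of_le (St_le A u))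
  have huf : u ∈ Fx (St A u) := fun b hb => hb.2
  have hle : St A (u * w) ≤ St A u := by
    intro a ha
    have hconj : ∀ b ∈ St A u, a * b * a⁻¹ ∈ St A u := by
      intro b hb
      rw [hc a ha.1 b hb.1, mul_inv_cancel_right]
      exact hb
    have hconj' : ∀ b ∈ St A u, a⁻¹ * b * a ∈ St A u := by
      intro b hb
      rw [mul_assoc, ← hc a ha.1 b hb.1, inv_mul_cancel_left]
      exact hb
    exact ⟨ha.1, (split hV hodd hconj hconj' huf hw ha.2).1⟩
  have heq : St A (u * w) = St A u := eq_of_le_of_card_ge hle (hu _)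
  apply hw1
  apply fx_cm hV hodd _ hw
  intro b hb
  have h1 : b ∈ St A (u * w) := by rw [heq]; exact hb
  have h2 := h1.2
  rw [map_mul, hb.2] at h2
  exact mul_left_cancel h2

/-- counting fixed points -/
theorem card_modEq {p : ℕ} [Fact p.Prime] {B : Subgroup (MulAut V)} (hB : IsPGroup p B) (U : Set V)
    (hU : ∀ b ∈ B, ∀ x ∈ U, b x ∈ U) :
    Nat.card U ≡ Nat.card {x : V // x ∈ U ∧ ∀ b ∈ B, b x = x} [MOD p] := by
  classical
  let _ : MulAction B U :=
    { smul := fun b x => ⟨b.1 x.1, hU b.1 b.2 x.1 x.2⟩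
      one_smul := fun x => rfl
      mul_smul := fun a b x => rfl }
  have h := hB.card_modEq_card_fixedPoints (α := U)
  have e : MulAction.fixedPoints B U ≃ {x : V // x ∈ U ∧ ∀ b ∈ B, b x = x} :=
    { toFun := fun x => ⟨x.1.1, x.1.2, fun b hb => congrArg Subtype.val (x.2 ⟨b, hb⟩)⟩
      invFun := fun x => ⟨⟨x.1, x.2.1⟩, fun b => Subtype.ext (x.2.2 b.1 b.2)⟩
      left_inv := fun x => rfl
      right_inv := fun x => rfl }
  rw [Nat.card_congr e] at h
  exact h

/-- the order of an odd group of automorphisms -/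
theorem card_dvd (hV : IsPGroup 2 V) (hcard : Nat.card V ≤ 32) {A : Subgroup (MulAut V)} (hA : Odd (Nat.card A)) :
    Nat.card A ∣ 9765 := by
  obtain ⟨k, hk⟩ := hV.exists_card_eq
  have hk5 : k ≤ 5 := by
    by_contra h
    push Not at h
    have h1 : 2 ^ 6 ≤ 2 ^ k := Nat.pow_le_pow_right (by norm_num) h
    rw [hk] at hcard
    omega
  obtain ⟨d, M, hd, -, hdvd⟩ := Cfsg.Agent.BpSpor.card_mulAut_dvd hV hk
  have h1 : Nat.card A ∣ 2 ^ M * ∏ i : Fin d, (2 ^ d - 2 ^ (i : ℕ)) := (card_subgroup_dvd_card A).trans hdvd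
  have h2 : Nat.Coprime (Nat.card A) (2 ^ M) := by
    apply Nat.Coprime.pow_right
    exact Nat.coprime_two_right.2 hA
  have h3 := h2.dvd_of_dvd_mul_left h1
  have h4 : Nat.card A ∣ 2 ^ 10 * 9765 := by
    refine h3.trans ?_
    have hd5 : d ≤ 5 := hd.trans hk5
    interval_cases d <;> decide
  have h5 : Nat.Coprime (Nat.card A) (2 ^ 10) := by
    apply Nat.Coprime.pow_right
    exact Nat.coprime_two_right.2 hA
  exact h5.dvd_of_dvd_mul_left h4

/-! ### orbits -/

theorem orb (A : Subgroup (MulAut V)) (u : V) :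
    Nat.card {v : V // ∃ a ∈ A, a u = v} * Nat.card (St A u) = Nat.card A := by
  classical
  have hfin : Finite (MulAut V) := inferInstance
  have h := Nat.card_congr (MulAction.orbitProdStabilizerEquivGroup A u)
  rw [Nat.card_prod] at h
  rw [← h]
  congr 1
  · apply Nat.card_congr
    refine Equiv.subtypeEquivRight ?_
    intro v
    constructor
    · rintro ⟨a, ha, rfl⟩
      exact ⟨⟨a, ha⟩, rfl⟩
    · rintro ⟨a, rfl⟩
      exact ⟨a.1, a.2, rfl⟩
  · apply Nat.card_congr
    exact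
      { toFun := fun s => ⟨⟨s.1, s.2.1⟩, s.2.2⟩
        invFun := fun s => ⟨s.1.1, s.1.2, s.2⟩
        left_inv := fun s => rfl
        right_inv := fun s => rfl }

/-- if the orbit of `u` lies in a set of at most two elements, it is trivial -/
theorem fix_of_two {A : Subgroup (MulAut V)} (hA : Odd (Nat.card A)) (U : Set V) (hU : ∀ a ∈ A, ∀ x ∈ U, a x ∈ U)
    (hc : Nat.card U ≤ 2) {u : V} (hu : u ∈ U) : ∀ a ∈ A, a u = u := by
  classical
  have h1 := orb A u
  have h2 : Nat.card {v : V // ∃ a ∈ A, a u = v} ≤ 2 := by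
    refine le_trans ?_ hc
    apply Nat.card_le_card_of_injective (fun v : {v : V // ∃ a ∈ A, a u = v} => (⟨v.1, by
      obtain ⟨v, a, ha, rfl⟩ := v
      exact hU a ha u hu⟩ : U))
    intro v w h
    exact Subtype.ext (congrArg (fun z : U => (z : V)) h)
  have h3 : Odd (Nat.card {v : V // ∃ a ∈ A, a u = v}) := by
    rw [← h1] at hA
    exact (Nat.odd_mul.1 hA).1
  have h4 : Nat.card {v : V // ∃ a ∈ A, a u = v} = 1 := by
    obtain ⟨k, hk⟩ := h3
    omega
  have h5 := (Nat.card_eq_one_iff_unique.1 h4).1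
  intro a ha
  exact congrArg Subtype.val (h5.elim ⟨a u, a, ha, rfl⟩ ⟨u, 1, A.one_mem, rfl⟩)

theorem card_diff_one {C : Subgroup V} {u : V} (hu : u ∈ C) (hu1 : u ≠ 1) :
    Nat.card {x : V // x ∈ C ∧ x ≠ 1 ∧ x ≠ u} + 2 = Nat.card C := by
  classical
  have := Fintype.ofFinite V
  have h1 : (Finset.univ.filter fun x : V => x ∈ C ∧ x ≠ 1 ∧ x ≠ u) =
      ((Finset.univ.filter fun x : V => x ∈ C).erase 1).erase u := by
    ext x
    simp only [Finset.mem_filter, Finset.mem_univ, true_and, Finset.mem_erase]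
    tauto
  have h2 : Nat.card {x : V // x ∈ C ∧ x ≠ 1 ∧ x ≠ u} =
      (Finset.univ.filter fun x : V => x ∈ C ∧ x ≠ 1 ∧ x ≠ u).card := by
    rw [Nat.card_eq_fintype_card, Fintype.card_subtype]
  have h3 : Nat.card C = (Finset.univ.filter fun x : V => x ∈ C).card := by
    rw [Nat.card_eq_fintype_card, Fintype.card_subtype]
  have h4 : (1 : V) ∈ (Finset.univ.filter fun x : V => x ∈ C) := by simp [C.one_mem]
  have h5 : u ∈ (Finset.univ.filter fun x : V => x ∈ C).erase 1 := by simp [hu, hu1]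
  rw [h2, h1, h3, ← Finset.card_erase_add_one h4, ← Finset.card_erase_add_one h5]

/-- an odd group fixing a nontrivial element of a group of order at most four acts trivially -/
theorem triv_of_fix {A : Subgroup (MulAut V)} (hA : Odd (Nat.card A)) {C : Subgroup V}
    (hC : ∀ a ∈ A, ∀ c ∈ C, a c ∈ C) (h4 : Nat.card C ≤ 4) {u : V} (hu : u ∈ C) (hu1 : u ≠ 1)
    (hf : ∀ a ∈ A, a u = u) : ∀ c ∈ C, ∀ a ∈ A, a c = c := by
  intro c hc
  by_cases h1 : c = 1
  · subst h1
    exact fun a _ => map_one a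
  by_cases h2 : c = u
  · subst h2
    exact hf
  refine fix_of_two hA {x : V | x ∈ C ∧ x ≠ 1 ∧ x ≠ u} ?_ ?_ ⟨hc, h1, h2⟩
  · rintro a ha x ⟨hx, hx1, hx2⟩
    refine ⟨hC a ha x hx, ?_, ?_⟩
    · intro h
      exact hx1 ((MulEquiv.map_eq_one_iff a).1 h)
    · intro h
      rw [← hf a ha] at h
      exact hx2 (a.injective h)
  · have := card_diff_one hu hu1
    have h3 : Nat.card {x : V | x ∈ C ∧ x ≠ 1 ∧ x ≠ u} = Nat.card {x : V // x ∈ C ∧ x ≠ 1 ∧ x ≠ u} := rfl
    omega

theorem exists_triv {A : Subgroup (MulAut V)} (hA : Odd (Nat.card A)) {C : Subgroup V}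
    (hC : ∀ a ∈ A, ∀ c ∈ C, a c ∈ C) (h4 : Nat.card C ≤ 4) :
    ∃ u ∈ C, ∀ a ∈ A, a u = u → ∀ c ∈ C, a c = c := by
  by_cases h : ∀ a ∈ A, ∀ c ∈ C, a c = c
  · exact ⟨1, C.one_mem, fun a ha _ => h a ha⟩
  push Not at h
  obtain ⟨a₀, ha₀, u, hu, hne⟩ := h
  have hu1 : u ≠ 1 := by
    rintro rfl
    exact hne (map_one a₀)
  refine ⟨u, hu, fun a ha hau c hc => ?_⟩
  have hodd : Odd (Nat.card (St A u)) := Odd.of_dvd_nat hA (card_dvd_of_le (St_le A u))
  exact triv_of_fix hodd (fun b hb c hc => hC b hb.1 c hc) h4 hu hu1 (fun b hb => hb.2) c hc a ⟨ha, hau⟩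

/-! ### elements of order seven -/

theorem two_pow {n : ℕ} (hV : IsPGroup 2 V) (C : Subgroup V) (h : Nat.card V ≤ n) :
    ∃ j, Nat.card C = 2 ^ j ∧ 2 ^ j ≤ n ∧ Nat.card C ∣ Nat.card V := by
  have h1 : IsPGroup 2 C := hV.to_subgroup C
  obtain ⟨j, hj⟩ := h1.exists_card_eq
  exact ⟨j, hj, hj ▸ (Nat.le_of_dvd Nat.card_pos (card_subgroup_dvd_card C)).trans h, card_subgroup_dvd_card C⟩

theorem fix_card (B : Subgroup (MulAut V)) (C : Subgroup V) :
    Nat.card {x : V // x ∈ (C : Set V) ∧ ∀ b ∈ B, b x = x} = Nat.card (Fx B ⊓ C : Subgroup V) := by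
  apply Nat.card_congr
  refine Equiv.subtypeEquivRight ?_
  intro x
  rw [mem_inf, mem_Fx, and_comm]
  rfl

theorem le_five {k : ℕ} (h : 2 ^ k ≤ 32) : k ≤ 5 := by
  by_contra hcon
  push Not at hcon
  have h1 : 2 ^ 6 ≤ 2 ^ k := Nat.pow_le_pow_right (by norm_num) hcon
  omega

theorem seven_card (hV : IsPGroup 2 V) (hcard : Nat.card V ≤ 32) {P : Subgroup (MulAut V)} (hP : Nat.card P = 7) :
    Nat.card (Cm P) = 8 ∧ Nat.card V = 8 * Nat.card (Fx P) ∧ Fx P ⊔ Cm P = ⊤ ∧ Nat.card (Fx P) ≤ 4 := by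
  classical
  have h7 : Fact (Nat.Prime 7) := ⟨by norm_num⟩
  have hPp : IsPGroup 7 P := IsPGroup.of_card (n := 1) (by rw [hP, pow_one])
  have hodd : Odd (Nat.card P) := by rw [hP]; decide
  have hne : P ≠ ⊥ := by
    rintro rfl
    rw [card_bot] at hP
    omega
  have hdisj : Fx P ⊓ Cm P = ⊥ := by
    rw [eq_bot_iff]
    intro c hc
    exact fx_cm hV hodd hc.1 hc.2
  have hinv : ∀ b ∈ P, ∀ x ∈ (Cm P : Set V), b x ∈ (Cm P : Set V) := by
    intro b hb x hx
    exact cm_inv (fun c hc => P.mul_mem (P.mul_mem hb hc) (P.inv_mem hb)) hx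
  have hmod := card_modEq hPp (Cm P : Set V) hinv
  rw [fix_card, hdisj, card_bot] at hmod
  obtain ⟨j, hj, hj32, -⟩ := two_pow hV (Cm P) hcard
  have hj5 := le_five hj32
  have hCm : Nat.card (Cm P) = 8 := by
    have h1 : Nat.card (Cm P) ≠ 1 := by
      intro h1
      obtain ⟨w, hw, hw1⟩ := exists_cm_ne hne
      rw [card_eq_one] at h1
      rw [h1, mem_bot] at hw
      exact hw1 hw
    have h2 : 2 ^ j ≡ 1 [MOD 7] := by rw [← hj]; exact hmod
    rw [hj] at h1 ⊢
    interval_cases j <;> revert h1 h2 <;> decide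
  have hmod2 := card_modEq hPp (Set.univ : Set V) (fun _ _ _ _ => trivial)
  have h3 : Nat.card {x : V // x ∈ (Set.univ : Set V) ∧ ∀ b ∈ P, b x = x} = Nat.card (Fx P) := by
    apply Nat.card_congr
    refine Equiv.subtypeEquivRight ?_
    intro x
    exact ⟨fun h => h.2, fun h => ⟨trivial, h⟩⟩
  rw [h3, Nat.card_congr (Equiv.Set.univ V)] at hmod2
  have hinj := Subgroup.mul_injective_of_disjoint (disjoint_iff.2 hdisj)
  have hle : Nat.card (Fx P) * Nat.card (Cm P) ≤ Nat.card V := by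
    rw [← Nat.card_prod]
    exact Nat.card_le_card_of_injective _ hinj
  obtain ⟨c, hc, -, -⟩ := two_pow hV (Fx P) hcard
  obtain ⟨k, hk⟩ := hV.exists_card_eq
  have hk5 : k ≤ 5 := le_five (hk ▸ hcard)
  have heq : k = c + 3 := by
    rw [hCm, hc, hk] at hle
    rw [hc, hk] at hmod2
    have hck : c + 3 ≤ k := by
      have h1 : 2 ^ (c + 3) ≤ 2 ^ k := by rw [pow_add]; exact hle
      exact (Nat.pow_le_pow_iff_right (by norm_num)).1 h1
    have hc2 : c ≤ 2 := by omega
    clear hle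
    interval_cases c <;> interval_cases k <;> first | rfl | (exfalso; revert hmod2; decide)
  have hV8 : Nat.card V = 8 * Nat.card (Fx P) := by
    rw [hk, hc, heq, pow_add]; ring
  refine ⟨hCm, hV8, ?_, ?_⟩
  · have hbij := Nat.bijective_iff_injective_and_card _ |>.2 ⟨hinj, by rw [Nat.card_prod, hCm, hV8, mul_comm]⟩
    rw [eq_top_iff]
    intro v _
    obtain ⟨⟨a, b⟩, hab⟩ := hbij.2 v
    rw [← hab]
    exact mul_mem_sup a.2 b.2
  · omega

theorem fx_top {B : Subgroup (MulAut V)} {C W : Subgroup V} (hCW : C ⊔ W = ⊤) (h1 : C ≤ Fx B) (h2 : W ≤ Fx B) :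
    B = ⊥ := by
  apply eq_one_of_fx
  intro v
  have h3 : C ⊔ W ≤ Fx B := sup_le h1 h2
  rw [hCW] at h3
  exact h3 (mem_top v)

/-- groups acting trivially on `Fx P` and fixing a nontrivial element of `Cm P` -/
theorem seven_fix (hV : IsPGroup 2 V) (hcard : Nat.card V ≤ 32) {P : Subgroup (MulAut V)} (hP : Nat.card P = 7)
    {T : Subgroup (MulAut V)} (hT : Odd (Nat.card T)) (h1 : ∀ t ∈ T, ∀ c ∈ Fx P, t c = c)
    (h2 : ∀ t ∈ T, ∀ x ∈ Cm P, t x ∈ Cm P) {w : V} (hw : w ∈ Cm P) (hw1 : w ≠ 1) (h3 : ∀ t ∈ T, t w = w) :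
    Nat.card T = 1 ∨ (Nat.card T = 3 ∧ 4 * Nat.card (Fx T) = Nat.card V) := by
  classical
  obtain ⟨hCm, hV8, hsup, hFx4⟩ := seven_card hV hcard hP
  have hle : Fx P ≤ Fx T := fun c hc t ht => h1 t ht c hc
  -- subgroups of prime order
  have key : ∀ B : Subgroup (MulAut V), B ≤ T → ∀ p : ℕ, p.Prime → Nat.card B = p →
      p = 3 ∧ Nat.card (Fx B ⊓ Cm P : Subgroup V) = 2 := by
    intro B hB p hp hBp
    have hpf : Fact p.Prime := ⟨hp⟩
    have hBpg : IsPGroup p B := IsPGroup.of_card (n := 1) (by rw [hBp, pow_one])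
    have hmod := card_modEq hBpg (Cm P : Set V) (fun b hb x hx => h2 b (hB hb) x hx)
    rw [fix_card] at hmod
    have h8 : Nat.card (Cm P : Set V) = 8 := hCm
    rw [h8] at hmod
    have hdvd : Nat.card (Fx B ⊓ Cm P : Subgroup V) ∣ 8 := by
      rw [← hCm]
      exact card_dvd_of_le inf_le_right
    have hne1 : Nat.card (Fx B ⊓ Cm P : Subgroup V) ≠ 1 := by
      intro h
      rw [card_eq_one] at h
      have h4 : w ∈ Fx B ⊓ Cm P := ⟨fun b hb => h3 b (hB hb), hw⟩
      rw [h, mem_bot] at h4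
      exact hw1 h4
    have hne8 : Nat.card (Fx B ⊓ Cm P : Subgroup V) ≠ 8 := by
      intro h
      have h4 : Fx B ⊓ Cm P = Cm P := eq_of_le_of_card_ge inf_le_right (by rw [h, hCm])
      have h5 : B = ⊥ := fx_top hsup (fun c hc b hb => h1 b (hB hb) c hc) (by rw [← h4]; exact inf_le_left)
      rw [h5, card_bot] at hBp
      exact hp.one_lt.ne hBp
    have hp2 : p ≠ 2 := by
      rintro rfl
      have h4 : Nat.card B ∣ Nat.card T := card_dvd_of_le hB
      rw [hBp] at h4
      exact (Nat.not_even_iff_odd.2 hT) (even_iff_two_dvd.2 h4)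
    have hle8 := Nat.le_of_dvd (by norm_num) hdvd
    obtain ⟨m, hm⟩ : ∃ m, Nat.card (Fx B ⊓ Cm P : Subgroup V) = m := ⟨_, rfl⟩
    rw [hm] at hmod hdvd hne1 hne8 hle8 ⊢
    have hm24 : m = 2 ∨ m = 4 := by
      clear hmod
      interval_cases m <;> omega
    have h6 : p ∣ 8 - m := (Nat.modEq_iff_dvd' hle8).1 hmod.symm
    rcases hm24 with rfl | rfl
    · refine ⟨?_, rfl⟩
      have h7 : p ∣ 2 * 3 := by simpa using h6
      rcases (Nat.Prime.dvd_mul hp).1 h7 with h | h
      · exact absurd ((Nat.prime_dvd_prime_iff_eq hp Nat.prime_two).1 h) hp2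
      · exact (Nat.prime_dvd_prime_iff_eq hp Nat.prime_three).1 h
    · exfalso
      have h7 : p ∣ 2 ^ 2 := by simpa using h6
      exact hp2 ((Nat.prime_dvd_prime_iff_eq hp Nat.prime_two).1 (hp.dvd_of_dvd_pow h7))
  -- every subgroup of `T` has order a power of three
  have hprime : ∀ p : ℕ, p.Prime → p ∣ Nat.card T → p = 3 := by
    intro p hp hd
    have hpf : Fact p.Prime := ⟨hp⟩
    obtain ⟨x, hx⟩ := exists_prime_orderOf_dvd_card' p hd
    have hz : zpowers (x : MulAut V) ≤ T := by rw [zpowers_le]; exact x.2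
    refine (key (zpowers (x : MulAut V)) hz p hp ?_).1
    rw [Nat.card_zpowers, Subgroup.orderOf_coe, hx]
  have h9 : Nat.card T ∣ 9 := by
    have h4 := card_dvd hV hcard hT
    have h5 : Nat.Coprime (Nat.card T) (5 * 7 * 31) := by
      refine Nat.Coprime.mul_right (Nat.Coprime.mul_right ?_ ?_) ?_
      · exact ((Nat.Prime.coprime_iff_not_dvd (by norm_num)).2 fun h => by
          have := hprime 5 (by norm_num) h; omega).symm
      · exact ((Nat.Prime.coprime_iff_not_dvd (by norm_num)).2 fun h => by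
          have := hprime 7 (by norm_num) h; omega).symm
      · exact ((Nat.Prime.coprime_iff_not_dvd (by norm_num)).2 fun h => by
          have := hprime 31 (by norm_num) h; omega).symm
    have h6 : Nat.card T ∣ (5 * 7 * 31) * 9 := by
      have h7 : 9765 = (5 * 7 * 31) * 9 := by norm_num
      rwa [h7] at h4
    exact h5.dvd_of_dvd_mul_left h6
  have hcases : Nat.card T = 1 ∨ Nat.card T = 3 ∨ Nat.card T = 9 := by
    have h4 := Nat.le_of_dvd (by norm_num) h9
    have h5 : 0 < Nat.card T := Nat.card_pos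
    obtain ⟨m, hm⟩ : ∃ m, Nat.card T = m := ⟨_, rfl⟩
    rw [hm] at h9 h4 h5 ⊢
    interval_cases m <;> omega
  rcases hcases with h | h | h
  · exact Or.inl h
  · right
    refine ⟨h, ?_⟩
    have h3f : Fact (Nat.Prime 3) := ⟨Nat.prime_three⟩
    have hTp : IsPGroup 3 T := IsPGroup.of_card (n := 1) (by rw [h, pow_one])
    have hmod := card_modEq hTp (Set.univ : Set V) (fun _ _ _ _ => trivial)
    have h4 : Nat.card {x : V // x ∈ (Set.univ : Set V) ∧ ∀ b ∈ T, b x = x} = Nat.card (Fx T) := by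
      apply Nat.card_congr
      refine Equiv.subtypeEquivRight ?_
      intro x
      exact ⟨fun h => h.2, fun h => ⟨trivial, h⟩⟩
    rw [h4, Nat.card_congr (Equiv.Set.univ V)] at hmod
    have hlt : Fx P < Fx T := by
      refine lt_of_le_of_ne hle ?_
      intro heq
      have h5 : w ∈ Fx P := by rw [heq]; exact fun t ht => h3 t ht
      have hodd : Odd (Nat.card P) := by rw [hP]; decide
      exact hw1 (fx_cm hV hodd h5 hw)
    have hneV : Nat.card (Fx T) ≠ Nat.card V := by
      intro h5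
      have h6 : Fx T = ⊤ := eq_top_of_card_eq _ h5
      have h7 : T = ⊥ := eq_one_of_fx fun v => by rw [h6]; exact mem_top v
      rw [h7, card_bot] at h
      omega
    obtain ⟨c, hc, -, -⟩ := two_pow hV (Fx P) hcard
    obtain ⟨f, hf, -, -⟩ := two_pow hV (Fx T) hcard
    obtain ⟨k, hk⟩ := hV.exists_card_eq
    have hk5 : k ≤ 5 := le_five (hk ▸ hcard)
    have hkc : k = c + 3 := by
      rw [hk, hc] at hV8
      have h5 : 2 ^ k = 2 ^ (c + 3) := by rw [hV8, pow_add]; ring
      exact Nat.pow_right_injective (le_refl 2) h5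
    have hcf : c < f := by
      have h5 := (card_subgroup_dvd_card (Fx P)).trans dvd_rfl
      have h6 : Nat.card (Fx P) < Nat.card (Fx T) := by
        have h7 := card_le_of_le hlt.le
        rcases h7.lt_or_eq with h8 | h8
        · exact h8
        · exact absurd (eq_of_le_of_card_ge hlt.le h8.ge) hlt.ne
      rw [hc, hf] at h6
      exact (Nat.pow_lt_pow_iff_right (by norm_num)).1 h6
    have hfk : f < k := by
      have h6 : Nat.card (Fx T) < Nat.card V :=
        lt_of_le_of_ne (Nat.le_of_dvd Nat.card_pos (card_subgroup_dvd_card _)) hneV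
      rw [hf, hk] at h6
      exact (Nat.pow_lt_pow_iff_right (by norm_num)).1 h6
    rw [hf, hk] at hmod ⊢
    have hc2 : c ≤ 2 := by omega
    subst hkc
    have hff : f = c + 1 ∨ f = c + 2 := by omega
    rcases hff with rfl | rfl
    · rw [pow_add 2 c 3, pow_add 2 c 1]; ring
    · exfalso
      interval_cases c <;> revert hmod <;> decide
  · exfalso
    -- a set of six elements
    have h6 := card_diff_one hw hw1
    rw [hCm] at h6
    have h7 : Nonempty {x : V // x ∈ Cm P ∧ x ≠ 1 ∧ x ≠ w} := by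
      rw [← Finite.card_pos_iff]
      omega
    obtain ⟨⟨x, hx, hx1, hxw⟩⟩ := h7
    have h8 := orb T x
    have h9' : Nat.card {v : V // ∃ a ∈ T, a x = v} ≤ 6 := by
      have h10 : Nat.card {v : V // ∃ a ∈ T, a x = v} ≤ Nat.card {x : V // x ∈ Cm P ∧ x ≠ 1 ∧ x ≠ w} := by
        apply Nat.card_le_card_of_injective (fun v : {v : V // ∃ a ∈ T, a x = v} =>
          (⟨v.1, by
            obtain ⟨v, a, ha, rfl⟩ := v
            refine ⟨h2 a ha x hx, ?_, ?_⟩
            · intro h
              exact hx1 ((MulEquiv.map_eq_one_iff a).1 h)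
            · intro h
              rw [← h3 a ha] at h
              exact hxw (a.injective h)⟩ : {x : V // x ∈ Cm P ∧ x ≠ 1 ∧ x ≠ w}))
        intro v w' h
        exact Subtype.ext (congrArg (fun z : {x : V // x ∈ Cm P ∧ x ≠ 1 ∧ x ≠ w} => (z : V)) h)
      omega
    have h10 : St T x ≠ ⊥ := by
      intro h11
      rw [h11, card_bot, mul_one, h] at h8
      omega
    have h3d : 3 ∣ Nat.card (St T x) := by
      have h11 : Nat.card (St T x) ∣ 9 := by rw [← h]; exact card_dvd_of_le (St_le T x)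
      have h12 : Nat.card (St T x) ≠ 1 := by rwa [Ne, card_eq_one]
      have h13 := Nat.le_of_dvd (by norm_num) h11
      obtain ⟨m, hm⟩ : ∃ m, Nat.card (St T x) = m := ⟨_, rfl⟩
      rw [hm] at h11 h12 h13 ⊢
      interval_cases m <;> omega
    have h3f : Fact (Nat.Prime 3) := ⟨Nat.prime_three⟩
    obtain ⟨y, hy⟩ := exists_prime_orderOf_dvd_card' 3 h3d
    have hz : zpowers (y : MulAut V) ≤ St T x := by rw [zpowers_le]; exact y.2
    have h14 := (key (zpowers (y : MulAut V)) (hz.trans (St_le T x)) 3 Nat.prime_three (by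
      rw [Nat.card_zpowers, Subgroup.orderOf_coe, hy])).2
    -- three fixed points
    have h15 : ∀ v ∈ (Fx (zpowers (y : MulAut V)) ⊓ Cm P : Subgroup V), v = 1 ∨ v = w := by
      have h16 : w ∈ (Fx (zpowers (y : MulAut V)) ⊓ Cm P : Subgroup V) :=
        ⟨fun b hb => h3 b ((hz.trans (St_le T x)) hb), hw⟩
      have h17 := card_diff_one h16 hw1
      rw [h14] at h17
      have h18 : Nat.card {x : V // x ∈ (Fx (zpowers (y : MulAut V)) ⊓ Cm P : Subgroup V) ∧ x ≠ 1 ∧ x ≠ w} = 0 := by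
        omega
      have h19 := (Finite.card_eq_zero_iff.1 h18)
      intro v hv
      by_contra hcon
      push Not at hcon
      exact h19.elim ⟨v, hv, hcon.1, hcon.2⟩
    rcases h15 x ⟨fun b hb => (hz hb).2, hx⟩ with h | h
    · exact hx1 h
    · exact hxw h

/-! ### abstract groups of small odd order -/

theorem cyc_comm {G : Type*} [Group G] [IsCyclic G] (a b : G) : a * b = b * a := by
  obtain ⟨g, hg⟩ := IsCyclic.exists_generator (α := G)
  obtain ⟨i, rfl⟩ := hg a
  obtain ⟨j, rfl⟩ := hg b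
  exact (Commute.refl g).zpow_zpow i j

theorem sylow_seven {K : Type*} [Group K] [Finite K] (h : Nat.card K ∣ 63) (h7 : 7 ∣ Nat.card K) (P : Sylow 7 K) :
    (P : Subgroup K).Normal ∧ Nat.card P = 7 := by
  have h7f : Fact (Nat.Prime 7) := ⟨by norm_num⟩
  have hmod : Nat.card (Sylow 7 K) ≡ 1 [MOD 7] := card_sylow_modEq_one 7 K
  have hi := P.card_dvd_index
  have hci := (P : Subgroup K).card_mul_index
  have hP7 : 7 ∣ Nat.card P := P.dvd_card_of_dvd_card h7
  have hPp := P.isPGroup'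
  obtain ⟨j, hj⟩ := hPp.exists_card_eq
  have hPd : Nat.card P ∣ 63 := (card_subgroup_dvd_card _).trans h
  have hP : Nat.card P = 7 := by
    have h1 := Nat.le_of_dvd (by norm_num) hPd
    have hj2 : j ≤ 2 := by
      by_contra hcon
      push Not at hcon
      have h2 : 7 ^ 3 ≤ 7 ^ j := Nat.pow_le_pow_right (by norm_num) hcon
      rw [hj] at h1
      omega
    rw [hj] at hP7 hPd ⊢
    interval_cases j
    · exfalso; revert hP7; decide
    · rfl
    · exfalso; revert hPd; decide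
  refine ⟨?_, hP⟩
  have hidx : (P : Subgroup K).index ∣ 9 := by
    have h1 : 7 * (P : Subgroup K).index ∣ 7 * 9 := by
      have h2 : Nat.card P * (P : Subgroup K).index = Nat.card K := hci
      rw [hP] at h2
      rw [h2]
      exact h
    exact Nat.dvd_of_mul_dvd_mul_left (by norm_num) h1
  have hn : Nat.card (Sylow 7 K) ∣ 9 := hi.trans hidx
  have hn1 : Nat.card (Sylow 7 K) = 1 := by
    have h1 := Nat.le_of_dvd (by norm_num) hn
    obtain ⟨m, hm⟩ : ∃ m, Nat.card (Sylow 7 K) = m := ⟨_, rfl⟩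
    rw [hm] at hmod hn h1 ⊢
    have hmod' : m % 7 = 1 := hmod
    interval_cases m <;> omega
  have : Subsingleton (Sylow 7 K) := (Nat.card_eq_one_iff_unique.1 hn1).1
  exact P.normal_of_subsingleton

theorem normal_seven {G : Type*} [Group G] [Finite G] (h : Nat.card G ∣ 315) (h7 : 7 ∣ Nat.card G) :
    ∃ P : Subgroup G, P.Normal ∧ Nat.card P = 7 := by
  classical
  have h7f : Fact (Nat.Prime 7) := ⟨by norm_num⟩
  have h5f : Fact (Nat.Prime 5) := ⟨by norm_num⟩
  by_cases h5 : 5 ∣ Nat.card G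
  · obtain ⟨Q⟩ : Nonempty (Sylow 5 G) := inferInstance
    have hQ5 : 5 ∣ Nat.card Q := Q.dvd_card_of_dvd_card h5
    obtain ⟨j, hj⟩ := Q.isPGroup'.exists_card_eq
    have hQd : Nat.card Q ∣ 315 := (card_subgroup_dvd_card _).trans h
    have hQ : Nat.card Q = 5 := by
      have h1 := Nat.le_of_dvd (by norm_num) hQd
      have hj2 : j ≤ 3 := by
        by_contra hcon
        push Not at hcon
        have h2 : 5 ^ 4 ≤ 5 ^ j := Nat.pow_le_pow_right (by norm_num) hcon
        rw [hj] at h1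
        omega
      rw [hj] at hQ5 hQd ⊢
      interval_cases j
      · exfalso; revert hQ5; decide
      · rfl
      · exfalso; revert hQd; decide
      · exfalso; revert hQd; decide
    have hcyc : IsCyclic Q := isCyclic_of_prime_card hQ
    have hcomm : ∀ x y : Q, x * y = y * x := fun x y => cyc_comm x y
    have hQ' : Nat.card (Q : Subgroup G) = 5 := hQ
    have hpow : ∀ x : Q, x ^ 5 = 1 := by
      intro x
      have h1 : x ^ Nat.card (Q : Subgroup G) = 1 := pow_card_eq_one'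
      rwa [hQ'] at h1
    have haut : Nat.card (MulAut Q) = 4 := by
      have h1 := Cfsg.Agent.Transfer.ElemAbAut.card_mulAut (T := Q) 5 1 hcomm hpow (by rw [pow_one]; exact hQ')
      refine h1.trans ?_
      simp
    have hNC := Cfsg.Agent.Transfer.ElemAbAut.normalizer_le_centralizer 5 Q hcomm (by
      intro q hq hq1 hq2
      rw [haut] at hq1
      have h1 : q ∣ 2 ^ 2 := by simpa using hq1
      have h2 : q = 2 := (Nat.prime_dvd_prime_iff_eq hq Nat.prime_two).1 (hq.dvd_of_dvd_pow h1)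
      subst h2
      exfalso
      have h3 := hq2.trans h
      revert h3
      decide)
    set K := (MonoidHom.transferSylow Q hNC).ker with hK
    have hc := MonoidHom.ker_transferSylow_isComplement' Q hNC
    have hKc := hc.card_mul_card
    rw [hQ'] at hKc
    have hKd : Nat.card K ∣ 63 := by
      have h1 : Nat.card K * 5 ∣ 63 * 5 := by rw [hKc]; exact h
      exact Nat.dvd_of_mul_dvd_mul_right (by norm_num) h1
    have hK7 : 7 ∣ Nat.card K := by
      rw [← hKc] at h7
      exact (Nat.Coprime.dvd_mul_right (by norm_num)).1 h7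
    obtain ⟨P⟩ : Nonempty (Sylow 7 K) := inferInstance
    obtain ⟨hPn, hPc⟩ := sylow_seven hKd hK7 P
    have hchar : (P : Subgroup K).Characteristic := P.characteristic_of_normal hPn
    refine ⟨(P : Subgroup K).map K.subtype, inferInstance, ?_⟩
    rw [card_map_of_injective K.subtype_injective]
    exact hPc
  · have hd : Nat.card G ∣ 63 := by
      have h1 : Nat.Coprime (Nat.card G) 5 := ((Nat.Prime.coprime_iff_not_dvd (by norm_num)).2 h5).symm
      have h2 : Nat.card G ∣ 5 * 63 := by simpa using h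
      exact h1.dvd_of_dvd_mul_left h2
    obtain ⟨P⟩ : Nonempty (Sylow 7 G) := inferInstance
    exact ⟨P, sylow_seven hd h7 P⟩

theorem comm_45 {G : Type*} [Group G] [Finite G] (h : Nat.card G ∣ 45) : ∀ a b : G, a * b = b * a := by
  classical
  have h3f : Fact (Nat.Prime 3) := ⟨by norm_num⟩
  have h5f : Fact (Nat.Prime 5) := ⟨by norm_num⟩
  -- Sylow subgroups
  have hcard : ∀ p : ℕ, p.Prime → ∀ P : Sylow p G, p ∣ Nat.card G →
      (P : Subgroup G).Normal ∧ (Nat.card P = 3 ∨ Nat.card P = 9 ∨ Nat.card P = 5) := by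
    intro p hp P hpd
    have hpf : Fact p.Prime := ⟨hp⟩
    have hPd : Nat.card P ∣ 45 := (card_subgroup_dvd_card _).trans h
    have hPp : p ∣ Nat.card P := P.dvd_card_of_dvd_card hpd
    obtain ⟨j, hj⟩ := P.isPGroup'.exists_card_eq
    have hp35 : p = 3 ∨ p = 5 := by
      have h1 : p ∣ 3 ^ 2 * 5 := by simpa using hpd.trans h
      rcases (Nat.Prime.dvd_mul hp).1 h1 with h2 | h2
      · exact Or.inl ((Nat.prime_dvd_prime_iff_eq hp Nat.prime_three).1 (hp.dvd_of_dvd_pow h2))
      · exact Or.inr ((Nat.prime_dvd_prime_iff_eq hp (by norm_num)).1 h2)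
    have hmod : Nat.card (Sylow p G) ≡ 1 [MOD p] := card_sylow_modEq_one p G
    have hi := P.card_dvd_index
    have hci : Nat.card P * (P : Subgroup G).index = Nat.card G := (P : Subgroup G).card_mul_index
    have hne := P.not_dvd_index
    have hjle : j ≤ 3 := by
      by_contra hcon
      push Not at hcon
      have h1 : 2 ^ j ≤ p ^ j := Nat.pow_le_pow_left hp.two_le j
      have h2 := Nat.le_of_dvd (by norm_num) hPd
      have h3 : 3 ^ 4 ≤ p ^ j := by
        calc 3 ^ 4 ≤ p ^ 4 := Nat.pow_le_pow_left (by omega) 4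
          _ ≤ p ^ j := Nat.pow_le_pow_right hp.pos hcon
      rw [hj] at h2
      omega
    have hnd : Nat.card (Sylow p G) ∣ 45 := hi.trans ((Dvd.intro_left _ hci).trans h)
    have hcop : ¬ p ∣ Nat.card (Sylow p G) := fun h1 => hne (h1.trans hi)
    have hn1 : Nat.card (Sylow p G) = 1 := by
      have hle := Nat.le_of_dvd (by norm_num) hnd
      obtain ⟨m, hm⟩ : ∃ m, Nat.card (Sylow p G) = m := ⟨_, rfl⟩
      rw [hm] at hmod hnd hcop hle ⊢
      have hmod' : m % p = 1 % p := hmod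
      rcases hp35 with rfl | rfl
      · interval_cases m <;> omega
      · interval_cases m <;> omega
    have : Subsingleton (Sylow p G) := (Nat.card_eq_one_iff_unique.1 hn1).1
    refine ⟨P.normal_of_subsingleton, ?_⟩
    rw [hj] at hPd hPp ⊢
    rcases hp35 with rfl | rfl
    · interval_cases j
      · exfalso; revert hPp; decide
      · left; rfl
      · right; left; rfl
      · exfalso; revert hPd; decide
    · interval_cases j
      · exfalso; revert hPp; decide
      · right; right; rfl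
      · exfalso; revert hPd; decide
      · exfalso; revert hPd; decide
  have hcommP : ∀ P : Subgroup G, (Nat.card P = 3 ∨ Nat.card P = 9 ∨ Nat.card P = 5) → ∀ a b : P, a * b = b * a := by
    intro P hP a b
    rcases hP with h1 | h1 | h1
    · have := isCyclic_of_prime_card h1
      exact cyc_comm a b
    · have h2 : Nat.card P = 3 ^ 2 := h1
      exact (IsPGroup.isMulCommutative_of_card_eq_prime_sq h2).is_comm.comm a b
    · have := isCyclic_of_prime_card h1
      exact cyc_comm a b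
  have hn : ∀ p : ℕ, ∀ (_ : Fact p.Prime) (P : Sylow p G), (P : Subgroup G).Normal := by
    intro p hp P
    by_cases hpd : p ∣ Nat.card G
    · exact (hcard p hp.out P hpd).1
    · have h1 : (P : Subgroup G) = ⊥ := by
        rw [← card_eq_one]
        obtain ⟨j, hj⟩ := P.isPGroup'.exists_card_eq
        rcases Nat.eq_zero_or_pos j with h0 | h0
        · have h2 : Nat.card (P : Subgroup G) = p ^ j := hj
          rw [h2, h0, pow_zero]
        · exfalso
          apply hpd
          have h2 : Nat.card (P : Subgroup G) = p ^ j := hj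
          refine Dvd.dvd.trans ?_ (card_subgroup_dvd_card (P : Subgroup G))
          rw [h2]
          exact dvd_pow_self p h0.ne'
      rw [h1]
      infer_instance
  have hn' : ∀ {p : ℕ} [Fact p.Prime] (P : Sylow p G), (P : Subgroup G).Normal := fun {p} hp P => hn p hp P
  let e := Sylow.directProductOfNormal hn'
  intro a b
  obtain ⟨x, rfl⟩ := e.surjective a
  obtain ⟨y, rfl⟩ := e.surjective b
  rw [← map_mul, ← map_mul]
  congr 1
  funext p
  funext P
  have hp : (p : ℕ).Prime := Nat.prime_of_mem_primeFactors p.2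
  have hpd : (p : ℕ) ∣ Nat.card G := Nat.dvd_of_mem_primeFactors p.2
  exact hcommP P (hcard p hp P hpd).2 _ _

/-! ### the case `7 ∣ |A|` -/

theorem exists_seven (hV : IsPGroup 2 V) (hcard : Nat.card V ≤ 32) {A : Subgroup (MulAut V)}
    (hA : Odd (Nat.card A)) (h7 : 7 ∣ Nat.card A) (h31 : ¬ 31 ∣ Nat.card A) :
    ∃ P : Subgroup (MulAut V), P ≤ A ∧ Nat.card P = 7 ∧ (∀ a ∈ A, ∀ b ∈ P, a * b * a⁻¹ ∈ P) ∧
      ∀ a ∈ A, ∀ b ∈ P, a⁻¹ * b * a ∈ P := by
  have h1 : Nat.card A ∣ 315 := by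
    have h2 := card_dvd hV hcard hA
    have h3 : Nat.Coprime (Nat.card A) 31 := ((Nat.Prime.coprime_iff_not_dvd (by norm_num)).2 h31).symm
    have h4 : Nat.card A ∣ 31 * 315 := by simpa using h2
    exact h3.dvd_of_dvd_mul_left h4
  obtain ⟨P, hPn, hP⟩ := normal_seven h1 h7
  refine ⟨P.map A.subtype, map_subtype_le P, by rw [card_map_of_injective A.subtype_injective, hP], ?_, ?_⟩
  · rintro a ha b ⟨b, hb, rfl⟩
    exact ⟨⟨a, ha⟩ * b * ⟨a, ha⟩⁻¹, hPn.conj_mem b hb ⟨a, ha⟩, rfl⟩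
  · rintro a ha b ⟨b, hb, rfl⟩
    refine ⟨⟨a, ha⟩⁻¹ * b * ⟨a, ha⟩, ?_, rfl⟩
    have h2 := hPn.conj_mem b hb (⟨a, ha⟩ : A)⁻¹
    rwa [inv_inv] at h2

theorem case_seven (hV : IsPGroup 2 V) (hcard : Nat.card V ≤ 32) {A : Subgroup (MulAut V)}
    (hA : Odd (Nat.card A)) (h7 : 7 ∣ Nat.card A) (h31 : ¬ 31 ∣ Nat.card A) :
    ∃ u : V, Nat.card (St A u) = 1 ∨ (Nat.card (St A u) = 3 ∧ 4 * Nat.card (Fx (St A u)) = Nat.card V) := by
  obtain ⟨P, hPA, hP, hn, hn'⟩ := exists_seven hV hcard hA h7 h31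
  obtain ⟨hCm, hV8, hsup, hFx4⟩ := seven_card hV hcard hP
  have hodd : Odd (Nat.card P) := by rw [hP]; decide
  obtain ⟨u, hu, hutr⟩ := exists_triv hA (C := Fx P) (fun a ha c hc => fx_inv (hn' a ha) hc) hFx4
  obtain ⟨w, hw, hw1⟩ := exists_cm_ne (B := P) (by rintro rfl; rw [card_bot] at hP; omega)
  refine ⟨u * w, ?_⟩
  have hs : ∀ t ∈ St A (u * w), t u = u ∧ t w = w := fun t ht =>
    split hV hodd (hn t ht.1) (hn' t ht.1) hu hw ht.2
  have hTodd : Odd (Nat.card (St A (u * w))) := Odd.of_dvd_nat hA (card_dvd_of_le (St_le A _))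
  exact seven_fix hV hcard hP hTodd (fun t ht c hc => hutr t ht.1 (hs t ht).1 c hc)
    (fun t ht x hx => cm_inv (hn t ht.1) hx) hw hw1 (fun t ht => (hs t ht).2)

/-! ### the case `31 ∣ |A|` -/

theorem fx_univ (B : Subgroup (MulAut V)) {p : ℕ} [Fact p.Prime] (hB : IsPGroup p B) :
    Nat.card V ≡ Nat.card (Fx B) [MOD p] := by
  have hmod := card_modEq hB (Set.univ : Set V) (fun _ _ _ _ => trivial)
  have h4 : Nat.card {x : V // x ∈ (Set.univ : Set V) ∧ ∀ b ∈ B, b x = x} = Nat.card (Fx B) := by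
    apply Nat.card_congr
    refine Equiv.subtypeEquivRight ?_
    intro x
    exact ⟨fun h => h.2, fun h => ⟨trivial, h⟩⟩
  rwa [h4, Nat.card_congr (Equiv.Set.univ V)] at hmod

theorem fx_card_ne {B : Subgroup (MulAut V)} (hB : B ≠ ⊥) : Nat.card (Fx B) < Nat.card V := by
  refine lt_of_le_of_ne (Nat.le_of_dvd Nat.card_pos (card_subgroup_dvd_card _)) ?_
  intro h5
  have h6 : Fx B = ⊤ := eq_top_of_card_eq _ h5
  exact hB (eq_one_of_fx fun v => by rw [h6]; exact mem_top v)

theorem thirtyone (hV : IsPGroup 2 V) (hcard : Nat.card V ≤ 32) {P : Subgroup (MulAut V)} (hP : Nat.card P = 31) :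
    Nat.card V = 32 ∧ Fx P = ⊥ := by
  have hf : Fact (Nat.Prime 31) := ⟨by norm_num⟩
  have hPp : IsPGroup 31 P := IsPGroup.of_card (n := 1) (by rw [hP, pow_one])
  have hne : P ≠ ⊥ := by
    rintro rfl
    rw [card_bot] at hP
    omega
  have hmod := fx_univ P hPp
  have hlt := fx_card_ne hne
  obtain ⟨c, hc, -, -⟩ := two_pow hV (Fx P) hcard
  obtain ⟨k, hk⟩ := hV.exists_card_eq
  have hk5 : k ≤ 5 := le_five (hk ▸ hcard)
  rw [hc, hk] at hmod hlt
  have hck : c < k := (Nat.pow_lt_pow_iff_right (by norm_num)).1 hlt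
  rw [← card_eq_one, hc, hk]
  clear hc hk hlt
  interval_cases k <;> interval_cases c <;> first | exact ⟨rfl, rfl⟩ | (exfalso; revert hmod; decide)

/-- an element of order 31 generates a group transitive on the nontrivial elements -/
theorem trans31 (hV : IsPGroup 2 V) (hcard : Nat.card V ≤ 32) {P : Subgroup (MulAut V)} (hP : Nat.card P = 31)
    {u : V} (hu : u ≠ 1) {v : V} (hv : v ≠ 1) : ∃ p ∈ P, p u = v := by
  obtain ⟨hV32, hFx⟩ := thirtyone hV hcard hP
  have h1 := orb P u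
  have h2 : St P u = ⊥ := by
    rw [← card_eq_one]
    have h3 : Nat.card (St P u) ∣ 31 := by rw [← hP]; exact card_dvd_of_le (St_le P u)
    rcases (Nat.dvd_prime (by norm_num)).1 h3 with h4 | h4
    · exact h4
    · exfalso
      have h5 : St P u = P := eq_of_le_of_card_ge (St_le P u) (by rw [h4, hP])
      have h6 : u ∈ Fx P := by
        intro b hb
        rw [← h5] at hb
        exact hb.2
      rw [hFx, mem_bot] at h6
      exact hu h6
  rw [h2, card_bot, mul_one, hP] at h1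
  classical
  have h3 : Nat.card {x : V // x ≠ 1} = 31 := by
    have := Fintype.ofFinite V
    rw [Nat.card_eq_fintype_card, Fintype.card_subtype_compl, Fintype.card_subtype_eq, ← Nat.card_eq_fintype_card,
      hV32]
  let f : {x : V // ∃ a ∈ P, a u = x} → {x : V // x ≠ 1} := fun x => ⟨x.1, by
    obtain ⟨x, a, ha, rfl⟩ := x
    intro h
    exact hu ((MulEquiv.map_eq_one_iff a).1 h)⟩
  have hf : Function.Injective f := fun x y h => Subtype.ext (congrArg (fun z : {x : V // x ≠ 1} => (z : V)) h)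
  have hb := (Nat.bijective_iff_injective_and_card f).2 ⟨hf, by rw [h1, h3]⟩
  obtain ⟨⟨x, a, ha, hax⟩, hx⟩ := hb.2 ⟨v, hv⟩
  exact ⟨a, ha, hax.trans (congrArg Subtype.val hx)⟩

theorem sq_one (hV : IsPGroup 2 V) (hcard : Nat.card V ≤ 32) {P : Subgroup (MulAut V)} (hP : Nat.card P = 31)
    (v : V) : v * v = 1 := by
  obtain ⟨hV32, hFx⟩ := thirtyone hV hcard hP
  by_cases hv : v = 1
  · rw [hv, one_mul]
  have h2 : Fact (Nat.Prime 2) := ⟨Nat.prime_two⟩
  obtain ⟨t, ht⟩ := exists_prime_orderOf_dvd_card' (G := V) 2 (by rw [hV32]; norm_num)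
  have ht1 : t ≠ 1 := by
    rintro rfl
    rw [orderOf_one] at ht
    omega
  obtain ⟨a, -, rfl⟩ := trans31 hV hcard hP ht1 hv
  rw [← map_mul, ← pow_two, ← ht, pow_orderOf_eq_one, map_one]

theorem no63 (hV : IsPGroup 2 V) (hcard : Nat.card V ≤ 32) {S : Subgroup (MulAut V)}
    (hS : Odd (Nat.card S)) (h31 : ¬ 31 ∣ Nat.card S) {u : V} (hu : u ≠ 1) (hf : ∀ s ∈ S, s u = u)
    (h63 : 63 ∣ Nat.card S) : False := by
  have h3f : Fact (Nat.Prime 3) := ⟨Nat.prime_three⟩
  obtain ⟨P, hPS, hP, hn, hn'⟩ := exists_seven hV hcard hS ((by norm_num : 7 ∣ 63).trans h63) h31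
  obtain ⟨hCm, hV8, hsup, hFx4⟩ := seven_card hV hcard hP
  have huP : u ∈ Fx P := fun b hb => hf b (hPS hb)
  have htriv := triv_of_fix hS (C := Fx P) (fun a ha c hc => fx_inv (hn' a ha) hc) hFx4 huP hu hf
  obtain ⟨Q⟩ : Nonempty (Sylow 3 S) := inferInstance
  set T : Subgroup (MulAut V) := (Q : Subgroup S).map S.subtype with hT
  have hTS : T ≤ S := map_subtype_le _
  have hTQ : Nat.card T = Nat.card Q := card_map_of_injective S.subtype_injective
  have hTp : IsPGroup 3 T := Q.isPGroup'.map S.subtype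
  have h9 : 9 ∣ Nat.card T := by
    rw [hTQ]
    have h1 : 3 ^ 2 ∣ Nat.card S := (by norm_num : 3 ^ 2 ∣ 63).trans h63
    exact Sylow.pow_dvd_card_of_pow_dvd_card Q h1
  have hmod := card_modEq hTp (Cm P : Set V) (fun b hb x hx => cm_inv (hn b (hTS hb)) hx)
  rw [fix_card] at hmod
  have h8 : Nat.card (Cm P : Set V) = 8 := hCm
  rw [h8] at hmod
  have hex : ∃ w ∈ (Fx T ⊓ Cm P : Subgroup V), w ≠ 1 := by
    by_contra hcon
    push Not at hcon
    have h1 : Fx T ⊓ Cm P = ⊥ := by
      rw [eq_bot_iff]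
      intro x hx
      exact hcon x hx
    rw [h1, card_bot] at hmod
    revert hmod
    decide
  obtain ⟨w, hw, hw1⟩ := hex
  have hTodd : Odd (Nat.card T) := Odd.of_dvd_nat hS (card_dvd_of_le hTS)
  rcases seven_fix hV hcard hP hTodd (fun t ht c hc => htriv c hc t (hTS ht))
    (fun t ht x hx => cm_inv (hn t (hTS ht)) hx) hw.2 hw1 (fun t ht => hw.1 t ht) with h | ⟨h, -⟩
  · rw [h] at h9
    revert h9; decide
  · rw [h] at h9
    revert h9; decide

theorem conj_pow_eq {G : Type*} [Group G] {s x : G} {k : ℕ} (h : s * x * s⁻¹ = x ^ k) (i : ℕ) :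
    s ^ i * x * (s ^ i)⁻¹ = x ^ (k ^ i) := by
  induction i with
  | zero => simp
  | succ i ih =>
    have h1 : s ^ (i + 1) * x * (s ^ (i + 1))⁻¹ = s * (s ^ i * x * (s ^ i)⁻¹) * s⁻¹ := by
      rw [pow_succ' s i, mul_inv_rev]; group
    rw [h1, ih, ← conj_pow, h, ← pow_mul, pow_succ' k i]

/-- the field with 32 elements has no automorphism of order three -/
theorem no_three {x : MulAut V} (hsq : ∀ v : V, v * v = 1) (hx3 : x ^ 3 ≠ 1) {y s : MulAut V} {j : ℕ}
    (hy : y = x ^ j) (hR : ∀ v, y v = v * x v) (hs : s * x * s⁻¹ = x ^ 5) : False := by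
  have h1 : s * y * s⁻¹ = y ^ 5 := by
    rw [hy, ← conj_pow, hs, ← pow_mul, ← pow_mul, mul_comm]
  have h2 : ∀ v, (y ^ 5) v = v * (x ^ 5) v := by
    intro v
    rw [← h1, MulAut.mul_apply, MulAut.mul_apply, hR, map_mul, MulAut.apply_inv_self, ← hs, MulAut.mul_apply,
      MulAut.mul_apply]
  have hR2 : ∀ v, (y ^ 2) v = v * (x ^ 2) v := by
    intro v
    rw [pow_two, MulAut.mul_apply, hR (y v), hR v, map_mul, pow_two, MulAut.mul_apply]
    calc v * x v * (x v * x (x v)) = v * (x v * x v) * x (x v) := by simp only [mul_assoc]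
      _ = v * x (x v) := by rw [hsq, mul_one]
  have hR4 : ∀ v, (y ^ 4) v = v * (x ^ 4) v := by
    intro v
    have e1 : y ^ 4 = y ^ 2 * y ^ 2 := by rw [← pow_add]
    have e2 : x ^ 4 = x ^ 2 * x ^ 2 := by rw [← pow_add]
    rw [e1, e2, MulAut.mul_apply, hR2 ((y ^ 2) v), hR2 v, map_mul, MulAut.mul_apply]
    calc v * (x ^ 2) v * ((x ^ 2) v * (x ^ 2) ((x ^ 2) v)) = v * ((x ^ 2) v * (x ^ 2) v) * (x ^ 2) ((x ^ 2) v) := by
          simp only [mul_assoc]
      _ = v * (x ^ 2) ((x ^ 2) v) := by rw [hsq, mul_one]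
  apply hx3
  apply MulEquiv.ext
  intro v
  have h3 := h2 v
  have e3 : y ^ 5 = y ^ 4 * y := by rw [← pow_succ]
  have e4 : x ^ 5 = x ^ 4 * x := by rw [← pow_succ]
  rw [e3, MulAut.mul_apply, hR4, hR, map_mul, e4, MulAut.mul_apply] at h3
  have h4 : x v * (x ^ 4) v = 1 := by
    have h5 : v * x v * ((x ^ 4) v * (x ^ 4) (x v)) = v * (x v * (x ^ 4) v) * (x ^ 4) (x v) := by
      simp only [mul_assoc]
    rw [h5] at h3
    have h6 := mul_right_cancel h3
    exact mul_eq_left.1 h6
  have h5 : (x ^ 4) v = x v := by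
    calc (x ^ 4) v = (x v * x v) * (x ^ 4) v := by rw [hsq, one_mul]
      _ = x v := by rw [mul_assoc, h4, mul_one]
  have e5 : x ^ 4 = x * x ^ 3 := by rw [← pow_succ']
  rw [e5, MulAut.mul_apply] at h5
  exact x.injective h5

theorem case31 (hV : IsPGroup 2 V) (hcard : Nat.card V ≤ 32) {A : Subgroup (MulAut V)} (hA : Odd (Nat.card A))
    (h31 : 31 ∣ Nat.card A) : ∃ u : V, Nat.card (St A u) = 1 ∨ (Nat.card (St A u) = 5 ∧ Nat.card V = 32 ∧
      (∀ x : V, x * x = 1) ∧ u ≠ 1 ∧ ∀ x : V, (∀ s ∈ St A u, s x = x) → x = 1 ∨ x = u) := by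
  classical
  have hf : Fact (Nat.Prime 31) := ⟨by norm_num⟩
  have hA9765 := card_dvd hV hcard hA
  obtain ⟨Q⟩ : Nonempty (Sylow 31 A) := inferInstance
  have hQ31 : 31 ∣ Nat.card (Q : Subgroup A) := Q.dvd_card_of_dvd_card h31
  obtain ⟨j, hj⟩ := Q.isPGroup'.exists_card_eq
  have hQ : Nat.card (Q : Subgroup A) = 31 := by
    have hQd : Nat.card (Q : Subgroup A) ∣ 9765 := (card_subgroup_dvd_card _).trans hA9765
    have hj' : Nat.card (Q : Subgroup A) = 31 ^ j := hj
    have h1 := Nat.le_of_dvd (by norm_num) hQd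
    have hj2 : j ≤ 2 := by
      by_contra hcon
      push Not at hcon
      have h2 : 31 ^ 3 ≤ 31 ^ j := Nat.pow_le_pow_right (by norm_num) hcon
      rw [hj'] at h1
      omega
    rw [hj'] at hQ31 hQd ⊢
    interval_cases j
    · exfalso; revert hQ31; decide
    · rfl
    · exfalso; revert hQd; decide
  set P : Subgroup (MulAut V) := (Q : Subgroup A).map A.subtype with hPdef
  have hPA : P ≤ A := map_subtype_le _
  have hP : Nat.card P = 31 := by rw [hPdef, card_map_of_injective A.subtype_injective, hQ]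
  obtain ⟨hV32, hFx⟩ := thirtyone hV hcard hP
  obtain ⟨u, hu⟩ : ∃ u : V, u ≠ 1 := by
    have : Nontrivial V := (Finite.one_lt_card_iff_nontrivial).1 (by rw [hV32]; norm_num)
    exact exists_ne 1
  -- the order of the stabiliser
  have horb : Nat.card {v : V // ∃ a ∈ A, a u = v} = 31 := by
    have h1 : Nat.card {v : V // ∃ a ∈ A, a u = v} = Nat.card {v : V // v ≠ 1} := by
      apply Nat.card_congr
      refine Equiv.subtypeEquivRight ?_
      intro v
      constructor
      · rintro ⟨a, ha, rfl⟩ h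
        exact hu ((MulEquiv.map_eq_one_iff a).1 h)
      · intro hv
        obtain ⟨p, hp, hpv⟩ := trans31 hV hcard hP hu hv
        exact ⟨p, hPA hp, hpv⟩
    rw [h1]
    have := Fintype.ofFinite V
    rw [Nat.card_eq_fintype_card, Fintype.card_subtype_compl, Fintype.card_subtype_eq, ← Nat.card_eq_fintype_card,
      hV32]
  have hAS := orb A u
  rw [horb] at hAS
  set S := St A u with hS
  have hSodd : Odd (Nat.card S) := Odd.of_dvd_nat hA (card_dvd_of_le (St_le A u))
  have hS315 : Nat.card S ∣ 315 := by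
    rw [← hAS] at hA9765
    exact Nat.dvd_of_mul_dvd_mul_left (by norm_num : 0 < 31) (by simpa using hA9765)
  have hS31 : ¬ 31 ∣ Nat.card S := by
    intro h
    have h1 := h.trans hS315
    revert h1
    decide
  -- Sylow
  have hmod : Nat.card (Sylow 31 A) ≡ 1 [MOD 31] := card_sylow_modEq_one 31 A
  have hidx : (Q : Subgroup A).index = Nat.card S := by
    have h1 := (Q : Subgroup A).card_mul_index
    rw [hQ, ← hAS] at h1
    exact Nat.eq_of_mul_eq_mul_left (by norm_num) h1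
  have hnS : Nat.card (Sylow 31 A) ∣ Nat.card S := by
    rw [← hidx]
    exact Q.card_dvd_index
  have hn1 : Nat.card (Sylow 31 A) = 1 := by
    have hnd := hnS.trans hS315
    have hle := Nat.le_of_dvd (by norm_num) hnd
    have hmod' : Nat.card (Sylow 31 A) % 31 = 1 := hmod
    obtain ⟨k, hk⟩ : ∃ k, Nat.card (Sylow 31 A) = 31 * k + 1 := ⟨Nat.card (Sylow 31 A) / 31, by omega⟩
    rw [hk] at hnd hle
    have hk10 : k ≤ 10 := by omega
    have hk2 : k = 0 ∨ k = 2 := by
      interval_cases k <;> omega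
    rcases hk2 with rfl | rfl
    · rw [hk]
    · exfalso
      rw [hk] at hnS
      exact no63 hV hcard hSodd hS31 hu (fun s hs => hs.2) hnS
  have : Subsingleton (Sylow 31 A) := (Nat.card_eq_one_iff_unique.1 hn1).1
  have hQn : (Q : Subgroup A).Normal := Q.normal_of_subsingleton
  have hPn : ∀ a ∈ A, ∀ b ∈ P, a * b * a⁻¹ ∈ P := by
    rintro a ha b ⟨b, hb, rfl⟩
    exact ⟨⟨a, ha⟩ * b * ⟨a, ha⟩⁻¹, hQn.conj_mem b hb ⟨a, ha⟩, rfl⟩
  -- a generator
  have hcyc : IsCyclic P := isCyclic_of_prime_card hP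
  obtain ⟨⟨x, hxP⟩, hx⟩ := IsCyclic.exists_generator (α := P)
  have hgen : ∀ p ∈ P, p ∈ zpowers x := by
    intro p hp
    obtain ⟨i, hi⟩ := hx ⟨p, hp⟩
    exact ⟨i, congrArg Subtype.val hi⟩
  have hzx : zpowers x = P := le_antisymm (by rw [zpowers_le]; exact hxP) hgen
  have hox : orderOf x = 31 := by rw [← Nat.card_zpowers, hzx, hP]
  have hpow : ∀ p ∈ P, ∃ k < 31, p = x ^ k := by
    intro p hp
    obtain ⟨k, hk, hk'⟩ := (mem_zpowers_iff_mem_range_orderOf.1 (hgen p hp) |> Finset.mem_image.1)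
    rw [Finset.mem_range, hox] at hk
    exact ⟨k, hk, hk'.symm⟩
  have hcommS : ∀ s ∈ S, s * x = x * s → s = 1 := by
    intro s hs hsx
    apply MulEquiv.ext
    intro v
    by_cases hv : v = 1
    · rw [hv, map_one, map_one]
    · obtain ⟨p, hp, rfl⟩ := trans31 hV hcard hP hu hv
      obtain ⟨k, -, rfl⟩ := hpow p hp
      have h1 : s * x ^ k = x ^ k * s := (Commute.pow_right hsx k)
      rw [← MulAut.mul_apply, h1, MulAut.mul_apply, hs.2]
      rfl
  -- the relation `1 + x = x ^ j`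
  have hsq := sq_one hV hcard hP
  have hux : u * x u ≠ 1 := by
    intro h
    have h1 : x u = u := by
      calc x u = (u * u) * x u := by rw [hsq, one_mul]
        _ = u := by rw [mul_assoc, h, mul_one]
    have h2 : u ∈ Fx P := by
      intro b hb
      obtain ⟨k, -, rfl⟩ := hpow b hb
      induction k with
      | zero => rfl
      | succ k ih => rw [pow_succ, MulAut.mul_apply, h1]; exact ih (by rw [← hzx]; exact ⟨k, by simp⟩)
    rw [hFx, mem_bot] at h2
    exact hu h2
  obtain ⟨y, hyP, hyu⟩ := trans31 hV hcard hP hu hux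
  obtain ⟨jj, -, hyj⟩ := hpow y hyP
  have hR : ∀ v, y v = v * x v := by
    intro v
    by_cases hv : v = 1
    · rw [hv, map_one, map_one, mul_one]
    · obtain ⟨p, hp, rfl⟩ := trans31 hV hcard hP hu hv
      obtain ⟨k, -, rfl⟩ := hpow p hp
      have h1 : y * x ^ k = x ^ k * y := by rw [hyj, ← pow_add, ← pow_add, add_comm]
      have h2 : x * x ^ k = x ^ k * x := by rw [← pow_succ, ← pow_succ']
      rw [← MulAut.mul_apply, h1, MulAut.mul_apply, hyu, map_mul, ← MulAut.mul_apply V x (x ^ k) u, h2, MulAut.mul_apply]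
  have hx3 : x ^ 3 ≠ 1 := by
    intro h
    have h1 := orderOf_dvd_of_pow_eq_one h
    rw [hox] at h1
    revert h1
    decide
  -- prime divisors of `|S|`
  have hprime : ∀ q : ℕ, q.Prime → q ∣ Nat.card S → q = 5 := by
    intro q hq hqS
    have hqf : Fact q.Prime := ⟨hq⟩
    obtain ⟨⟨s, hs⟩, hso⟩ := exists_prime_orderOf_dvd_card' q hqS
    rw [Subgroup.orderOf_mk] at hso
    have hs1 : s ≠ 1 := by
      rintro rfl
      rw [orderOf_one] at hso
      exact hq.one_lt.ne hso
    obtain ⟨k, hk31, hk⟩ := hpow _ (hPn s hs.1 x hxP)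
    have h1 := conj_pow_eq hk q
    rw [← hso, pow_orderOf_eq_one, hso, one_mul, inv_one, mul_one] at h1
    have h2 : k ^ q ≡ 1 [MOD 31] := by
      have h3 : x ^ 1 = x ^ (k ^ q) := by rw [pow_one]; exact h1
      have h4 := (pow_eq_pow_iff_modEq.1 h3).symm
      rwa [hox] at h4
    have hk1 : k ≠ 1 := by
      rintro rfl
      rw [pow_one] at hk
      apply hs1
      apply hcommS s hs
      exact mul_inv_eq_iff_eq_mul.1 hk
    have hq357 : q = 3 ∨ q = 5 ∨ q = 7 := by
      have h3 : q ∣ 3 ^ 2 * 5 * 7 := by simpa using hqS.trans hS315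
      rcases (Nat.Prime.dvd_mul hq).1 h3 with h4 | h4
      · rcases (Nat.Prime.dvd_mul hq).1 h4 with h5 | h5
        · exact Or.inl ((Nat.prime_dvd_prime_iff_eq hq Nat.prime_three).1 (hq.dvd_of_dvd_pow h5))
        · exact Or.inr (Or.inl ((Nat.prime_dvd_prime_iff_eq hq (by norm_num)).1 h5))
      · exact Or.inr (Or.inr ((Nat.prime_dvd_prime_iff_eq hq (by norm_num)).1 h4))
    rcases hq357 with rfl | rfl | rfl
    · exfalso
      have hk525 : k = 5 ∨ k = 25 := by
        have h2' : k ^ 3 % 31 = 1 := h2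
        interval_cases k <;> omega
      rcases hk525 with rfl | rfl
      · exact no_three hsq hx3 hyj hR hk
      · have h3 := conj_pow_eq hk 2
        have h4 : x ^ (25 ^ 2) = x ^ 5 := by
          rw [pow_eq_pow_iff_modEq, hox]
          decide
        rw [h4] at h3
        exact no_three hsq hx3 hyj hR h3
    · rfl
    · exfalso
      have h2' : k ^ 7 % 31 = 1 := h2
      interval_cases k <;> omega
  have hS5 : Nat.card S ∣ 5 := by
    have h5 : Nat.Coprime (Nat.card S) (9 * 7) := by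
      refine Nat.Coprime.mul_right ?_ ?_
      · have h1 : Nat.Coprime (Nat.card S) 3 := ((Nat.Prime.coprime_iff_not_dvd (by norm_num)).2 fun h => by
          have := hprime 3 (by norm_num) h; omega).symm
        exact Nat.Coprime.pow_right 2 h1
      · exact ((Nat.Prime.coprime_iff_not_dvd (by norm_num)).2 fun h => by
          have := hprime 7 (by norm_num) h; omega).symm
    have h6 : Nat.card S ∣ (9 * 7) * 5 := by simpa using hS315
    exact h5.dvd_of_dvd_mul_left h6
  refine ⟨u, ?_⟩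
  rcases (Nat.dvd_prime (by norm_num)).1 hS5 with h | h
  · exact Or.inl h
  · right
    refine ⟨h, hV32, hsq, hu, ?_⟩
    have h5f : Fact (Nat.Prime 5) := ⟨by norm_num⟩
    have hSp : IsPGroup 5 S := IsPGroup.of_card (n := 1) (by rw [h, pow_one])
    have hm := fx_univ S hSp
    have hSne : S ≠ ⊥ := by
      intro h1
      rw [h1, card_bot] at h
      omega
    have hlt := fx_card_ne hSne
    obtain ⟨c, hc, -, -⟩ := two_pow hV (Fx S) hcard
    have hc2 : Nat.card (Fx S) = 2 := by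
      rw [hV32, hc] at hm hlt
      have hc5 : c ≤ 5 := le_five hlt.le
      rw [hc]
      clear hc
      interval_cases c <;> first | rfl | (exfalso; revert hm hlt; decide)
    have huS : u ∈ Fx S := fun s hs => hs.2
    have h17 := card_diff_one huS hu
    rw [hc2] at h17
    have h18 : Nat.card {x : V // x ∈ Fx S ∧ x ≠ 1 ∧ x ≠ u} = 0 := by omega
    have h19 := (Finite.card_eq_zero_iff.1 h18)
    intro v hv
    by_contra hcon
    push Not at hcon
    exact h19.elim ⟨v, hv, hcon.1, hcon.2⟩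

/-- **Odd action lemma.** -/
theorem exists_good {V : Type*} [CommGroup V] [Finite V] (hV : IsPGroup 2 V) (hcard : Nat.card V ≤ 32)
    (A : Subgroup (MulAut V)) (hA : Odd (Nat.card A)) :
    ∃ u : V, ∃ S : Subgroup (MulAut V), (∀ s, s ∈ S ↔ s ∈ A ∧ s u = u) ∧ (Nat.card S = 1 ∨
      (Nat.card S = 3 ∧ 4 * Nat.card {x : V // ∀ s ∈ S, s x = x} = Nat.card V) ∨
      (Nat.card S = 5 ∧ Nat.card V = 32 ∧ (∀ x : V, x * x = 1) ∧ u ≠ 1 ∧
        ∀ x : V, (∀ s ∈ S, s x = x) → x = 1 ∨ x = u)) := by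
  by_cases h31 : 31 ∣ Nat.card A
  · obtain ⟨u, hu⟩ := case31 hV hcard hA h31
    refine ⟨u, St A u, fun s => Iff.rfl, ?_⟩
    rcases hu with h | h
    · exact Or.inl h
    · exact Or.inr (Or.inr h)
  by_cases h7 : 7 ∣ Nat.card A
  · obtain ⟨u, hu⟩ := case_seven hV hcard hA h7 h31
    refine ⟨u, St A u, fun s => Iff.rfl, ?_⟩
    rcases hu with h | h
    · exact Or.inl h
    · exact Or.inr (Or.inl h)
  · have h45 : Nat.card A ∣ 45 := by
      have h1 := card_dvd hV hcard hA
      have h2 : Nat.Coprime (Nat.card A) (7 * 31) :=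
        Nat.Coprime.mul_right ((Nat.Prime.coprime_iff_not_dvd (by norm_num)).2 h7).symm
          ((Nat.Prime.coprime_iff_not_dvd (by norm_num)).2 h31).symm
      have h3 : Nat.card A ∣ (7 * 31) * 45 := by simpa using h1
      exact h2.dvd_of_dvd_mul_left h3
    have hc := comm_45 h45
    obtain ⟨u, hu⟩ := exists_regular hV hA (fun a ha b hb => congrArg Subtype.val (hc ⟨a, ha⟩ ⟨b, hb⟩))
    exact ⟨u, St A u, fun s => Iff.rfl, Or.inl (by rw [hu, card_bot])⟩

end Cfsg.Agent.H809.OddAct
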