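import Cfsg.Agent.H809.SylBase
import Cfsg.Agent.H799.JSheet
import Cfsg.Agent.H105.AltSyl
import Cfsg.Agent.H256.RowS2
import Cfsg.Agent.KFacts.SuzSheetE
import Cfsg.Agent.KFacts.SuzSheetM
import Cfsg.Agent.KFacts.HN.SheetM
import Cfsg.Agent.CoOneType.Thirteen

/-!
# `J2`, `J3`, `Suz`, `Th`, `HN`: `p ≥ 5` divides the number of Sylow 2-subgroups (task 1111 for S3932; helper809)
-/

set_option autoImplicit false

namespace Cfsg.Agent.H809.Syl

open Subgroup Cfsg Cfsg.Agent.H512.SylNum Cfsg.Agent.QTNorm Cfsg.Agent.H256.Spor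

universe u

variable {K : Type u} [Group K]

/-! ### `A5` -/

theorem alt_five_comm : ∀ x t : alternatingGroup (Fin 5), x ^ 5 = 1 → t ^ 2 = 1 → x * t = t * x → x = 1 ∨ t = 1 := by
  decide +kernel

theorem five_alt : 5 ∣ Nat.card (Sylow 2 (alternatingGroup (Fin 5))) := by
  have hf2 : Fact (Nat.Prime 2) := ⟨Nat.prime_two⟩
  have hf5 : Fact (Nat.Prime 5) := ⟨by norm_num⟩
  by_contra hn
  obtain ⟨S⟩ : Nonempty (Sylow 2 (alternatingGroup (Fin 5))) := inferInstance
  obtain ⟨P, hP⟩ := exists_norm_at (p := 5) hn S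
  have h60 : Nat.card (alternatingGroup (Fin 5)) = 60 := by
    rw [nat_card_alternatingGroup, Nat.card_eq_fintype_card, Fintype.card_fin]; rfl
  have h1 : 5 ∣ Nat.card P := by
    have h2 := P.pow_dvd_card_of_pow_dvd_card (n := 1) (by rw [h60]; norm_num)
    simpa using h2
  have h4 := Cfsg.Agent.H105.alt_five_card S
  -- the conjugation action on `S` has another fixed point
  let act : MulAction P S :=
    { smul := fun g y => ⟨(g : alternatingGroup (Fin 5)) * y * (g : alternatingGroup (Fin 5))⁻¹,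
        (mem_normalizer_iff.1 (hP g.2) y).1 y.2⟩
      one_smul := fun y => Subtype.ext (by
        show (1 : alternatingGroup (Fin 5)) * y * (1 : alternatingGroup (Fin 5))⁻¹ = y
        group)
      mul_smul := fun a b y => Subtype.ext (by
        show ((a : alternatingGroup (Fin 5)) * b) * y * ((a : alternatingGroup (Fin 5)) * b)⁻¹ =
          a * (b * y * (b : alternatingGroup (Fin 5))⁻¹) * (a : alternatingGroup (Fin 5))⁻¹
        group) }
  have hm := P.2.card_modEq_card_fixedPoints S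
  have hS4 : Nat.card S = 4 := h4
  rw [hS4] at hm
  obtain ⟨⟨x, hxP⟩, hx⟩ := exists_prime_orderOf_dvd_card' 5 h1
  rw [orderOf_mk] at hx
  have h5 : x ^ 5 = 1 := (congrArg (fun n => x ^ n) hx).symm.trans (pow_orderOf_eq_one x)
  have hx1 : x ≠ 1 := by
    rintro rfl
    rw [orderOf_one] at hx
    omega
  have h6 : ∀ y ∈ MulAction.fixedPoints P S, y = (1 : S) := by
    intro y hy
    have h7 : x * y * x⁻¹ = y := congrArg Subtype.val (hy ⟨x, hxP⟩)
    have h8 : x * y = y * x := by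
      calc x * (y : alternatingGroup (Fin 5)) = x * y * x⁻¹ * x := by group
        _ = y * x := by rw [h7]
    have h9 : (y : alternatingGroup (Fin 5)) ^ 2 = 1 := by
      have h10 : y ^ 4 = 1 := by rw [← hS4]; exact pow_card_eq_one'
      apply Subtype.ext
      exact Cfsg.Agent.H105.alt_five_sq y.1.1 (Equiv.Perm.mem_alternatingGroup.mp y.1.2)
        (congrArg (fun z => ((z.1 : alternatingGroup (Fin 5)) : Equiv.Perm (Fin 5))) h10)
    exact Subtype.ext ((alt_five_comm x y h5 h9 h8).resolve_left hx1)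
  have h7 : Nat.card (MulAction.fixedPoints P S) ≤ 1 := by
    rw [Finite.card_le_one_iff_subsingleton]
    exact ⟨fun a b => Subtype.ext ((h6 a a.2).trans (h6 b b.2).symm)⟩
  interval_cases h : Nat.card (MulAction.fixedPoints P S) <;> revert hm <;> decide

/-! ### `J2`, `J3` -/

theorem dvd_two_j2 (h : Spor.IsoJ2 K) {p : ℕ} [hp : Fact p.Prime] (hp5 : 5 ≤ p) (hd : p ∣ Nat.card K) :
    p ∣ Nat.card (Sylow 2 K) := by
  have hc : Nat.card K = 604800 := NotCT.Orders.j2 h
  have : Finite K := Nat.finite_of_card_ne_zero (by rw [hc]; norm_num)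
  rw [hc] at hd
  obtain ⟨q, hq, hqp⟩ := mem_of_cube hp.out [(2, 7), (3, 3), (5, 2), (7, 1)] (by decide +kernel) (by norm_num) hd
  obtain ⟨t, u, Q, v, ρ, D⟩ := KFacts.J2.Facts.exists_dat_of h
  have hs := KFacts.J2.SheetX.sheetX D
  have hu : UInv t := uinv_of hs.zz hs.z1 hs.syl
  have hcC := D.cardC
  fin_cases hq <;> simp only at hqp <;> subst hqp
  · omega
  · omega
  · exact dvd_two_of_syl hu (k := 2) (by rw [hc]; norm_num) (by rw [hcC]; norm_num)
  · exact dvd_two_of_syl hu (k := 1) (by rw [hc]; norm_num) (by rw [hcC]; norm_num)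

theorem dvd_two_j3 (h : Spor.IsoJ3 K) {p : ℕ} [hp : Fact p.Prime] (hp5 : 5 ≤ p) (hd : p ∣ Nat.card K) :
    p ∣ Nat.card (Sylow 2 K) := by
  have hc : Nat.card K = 50232960 := NotCT.Orders.j3 h
  have : Finite K := Nat.finite_of_card_ne_zero (by rw [hc]; norm_num)
  rw [hc] at hd
  obtain ⟨q, hq, hqp⟩ := mem_of_cube hp.out [(2, 7), (3, 5), (5, 1), (17, 1), (19, 1)] (by decide +kernel)
    (by norm_num) hd
  obtain ⟨z, Q, v, ρ, M, hcC, -, hs⟩ := Foote.Row.JThree.sheet' K h
  have hu : UInv z := uinv_of hs.zz hs.z1 hs.syl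
  fin_cases hq <;> simp only at hqp <;> subst hqp
  · omega
  · omega
  · exact dvd_two_of_hom hu (H799.JSheet.proj M) (H799.JSheet.proj_surj M) five_alt
  · exact dvd_two_of_syl hu (k := 1) (by rw [hc]; norm_num) (by rw [hcC]; norm_num)
  · exact dvd_two_of_syl hu (k := 1) (by rw [hc]; norm_num) (by rw [hcC]; norm_num)

/-! ### `Suz` -/

section Suz

open Cfsg.Agent.KFacts Cfsg.Agent.SuzThree.CentA Cfsg.Agent.SuzThree.QZero

theorem dvd_two_suz (h : Spor.IsoSuz K) {p : ℕ} [hp : Fact p.Prime] (hp5 : 5 ≤ p) (hd : p ∣ Nat.card K) :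
    p ∣ Nat.card (Sylow 2 K) := by
  have hc : Nat.card K = 448345497600 := NotCT.Orders.suz h
  have : Finite K := Nat.finite_of_card_ne_zero (by rw [hc]; norm_num)
  rw [hc] at hd
  obtain ⟨e⟩ := h
  have hcm : Nat.card Spor.Suz = 448345497600 := by rw [← Nat.card_congr e.toEquiv, hc]
  have : Finite Spor.Suz := Finite.of_equiv _ e.toEquiv
  refine dvd_two_congr e ?_
  obtain ⟨q, hq, hqp⟩ := mem_of_cube hp.out [(2, 13), (3, 7), (5, 2), (7, 1), (11, 1), (13, 1)] (by decide +kernel)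
    (by norm_num) hd
  have hs := SuzSheetE.sheetE
  have hu : UInv (z0 : Spor.Suz) := uinv_of hs.zz hs.z1 hs.syl
  have hcC : Nat.card (centralizer ({z0} : Set Spor.Suz)) = 3317760 := by
    rw [← SuzSheetM.C1_eq, SuzCent.card_C1]
  fin_cases hq <;> simp only at hqp <;> subst hqp
  · omega
  · omega
  · exact dvd_two_of_syl hu (k := 2) (by rw [hcm]; norm_num) (by rw [hcC]; norm_num)
  · exact dvd_two_of_syl hu (k := 1) (by rw [hcm]; norm_num) (by rw [hcC]; norm_num)
  · exact dvd_two_of_syl hu (k := 1) (by rw [hcm]; norm_num) (by rw [hcC]; norm_num)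
  · exact dvd_two_of_syl hu (k := 1) (by rw [hcm]; norm_num) (by rw [hcC]; norm_num)

end Suz

/-! ### `HN` -/

section HN

open Cfsg.Agent.KFacts.HN Cfsg.Agent.HN Cfsg.Agent.HN.XStruct Cfsg.Agent.HN.XWords Cfsg.Agent.HN.XQuot

theorem hn_not_dvd {p k : ℕ} (hp : p.Prime) (hp2 : p ≠ 2) (h : ¬ p ^ k ∣ 3600) [Finite Spor.HN] :
    ¬ p ^ k ∣ Nat.card (centralizer ({W0} : Set Spor.HN)) := by
  have h60 : Nat.card A5 = 60 := by
    rw [Nat.card_eq_fintype_card]; decide +kernel
  obtain ⟨f, hfs, hfρ⟩ := exists_f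
  have hPP : PP = centralizer ({W0} : Set Spor.HN) := by
    ext x
    rw [mem_centralizer_singleton_iff]
    exact mem_PP
  have h1 : ¬ p ^ k ∣ Nat.card MM := by
    refine not_dvd_of_hom f hfs RS_isPGroup (fun c hc => ?_) hp hp2 ?_
    · have h5 := hfρ c
      rw [hc, map_one] at h5
      exact ⟨⟨c, MM_le_PP c.2⟩, h5.symm, rfl⟩
    · rw [Nat.card_prod, h60]
      exact h
  have h2 : Nat.card MM * 2 = Nat.card PP := by
    have h3 := Subgroup.card_mul_index (MM.subgroupOf PP)
    rw [Nat.card_congr (Subgroup.subgroupOfEquivOfLe MM_le_PP).toEquiv] at h3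
    have h4 : (MM.subgroupOf PP).index = 2 := relIndex_MM
    rw [h4] at h3
    exact h3
  rw [← hPP, ← h2]
  intro h3
  have hc : (p ^ k).Coprime 2 := Nat.Coprime.pow_left k ((Nat.coprime_primes hp Nat.prime_two).2 hp2)
  exact h1 (hc.dvd_of_dvd_mul_right h3)

theorem dvd_two_hn (h : Spor.IsoHN K) {p : ℕ} [hp : Fact p.Prime] (hp5 : 5 ≤ p) (hd : p ∣ Nat.card K) :
    p ∣ Nat.card (Sylow 2 K) := by
  have hc : Nat.card K = 273030912000000 := NotCT.Orders.hn h
  have : Finite K := Nat.finite_of_card_ne_zero (by rw [hc]; norm_num)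
  rw [hc] at hd
  obtain ⟨e⟩ := h
  have hcm : Nat.card Spor.HN = 273030912000000 := by rw [← Nat.card_congr e.toEquiv, hc]
  have : Finite Spor.HN := Finite.of_equiv _ e.toEquiv
  refine dvd_two_congr e ?_
  obtain ⟨q, hq, hqp⟩ := mem_of_cube hp.out [(2, 14), (3, 6), (5, 6), (7, 1), (11, 1), (19, 1)] (by decide +kernel)
    (by norm_num) hd
  have hu : UInv W0 := uinv_of W0_W0 W0_ne sheetE.syl
  fin_cases hq <;> simp only at hqp <;> subst hqp
  · omega
  · omega
  · exact dvd_two_of_syl hu (k := 3) (by rw [hcm]; norm_num) (hn_not_dvd (by norm_num) (by norm_num) (by norm_num))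
  · exact dvd_two_of_syl hu (k := 1) (by rw [hcm]; norm_num) (hn_not_dvd (by norm_num) (by norm_num) (by norm_num))
  · exact dvd_two_of_syl hu (k := 1) (by rw [hcm]; norm_num) (hn_not_dvd (by norm_num) (by norm_num) (by norm_num))
  · exact dvd_two_of_syl hu (k := 1) (by rw [hcm]; norm_num) (hn_not_dvd (by norm_num) (by norm_num) (by norm_num))

end HN

end Cfsg.Agent.H809.Syl
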