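import Cfsg.Agent.H512.SylTwo
import Cfsg.Agent.H256.SporC
import Cfsg.Agent.NotCT.Orders

/-!
# `p` divides the number of Sylow 2-subgroups: criteria (tasks 1111, 1112 for S3932; helper809)
-/

set_option autoImplicit false

namespace Cfsg.Agent.H809.Syl

open Subgroup Cfsg Cfsg.Agent.H512.SylNum

universe u w

variable {K : Type u} [Group K]

theorem uinv_of {z : K} (zz : z * z = 1) (z1 : z ≠ 1) (h : ∃ S : Sylow 2 K, z ∈ S ∧ (∀ x ∈ S, x * z = z * x) ∧
    ∀ w ∈ S, (∀ x ∈ S, x * w = w * x) → w = 1 ∨ w = z) : UInv z := by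
  obtain ⟨S, h1, h2, h3⟩ := h
  exact ⟨zz, z1, S, h1, h2, fun w hw _ hc => h3 w hw hc⟩

theorem uinv_of_large {Q : Subgroup K} {z : K} [Finite K] (hl : Cfsg.Agent.Co2Type.Quad.Large Q z)
    (hodd : Odd (centralizer ({z} : Set K)).index) : UInv z := by
  have hcen : ∀ x ∈ centralizer ({z} : Set K), x * z = z * x := fun x hx => mem_centralizer_singleton_iff.1 hx
  have hQ2 : IsPGroup 2 Q := Cfsg.Agent.LargeExtra.Base.isPGroup hl
  have hnorm : centralizer ({z} : Set K) ≤ normalizer (Q : Set K) := by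
    intro g hg
    rw [mem_normalizer_iff]
    intro x
    refine ⟨fun hx => hl.conj_mem g (hcen g hg) x hx, fun hx => ?_⟩
    have h1 := hl.conj_mem g⁻¹ (hcen _ (inv_mem hg)) _ hx
    have e : g⁻¹ * (g * x * g⁻¹) * g⁻¹⁻¹ = x := by group
    rwa [e] at h1
  obtain ⟨S, hS⟩ := KFacts.AutLarge.exists_sylow hodd
  have hQS : Q ≤ S := by
    have h2 : IsPGroup 2 ((S : Subgroup K) ⊔ Q : Subgroup K) :=
      S.isPGroup'.to_sup_of_normal_right' hQ2 (hS.trans hnorm)
    have h3 := S.is_maximal' h2 le_sup_left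
    exact (le_sup_right : Q ≤ (S : Subgroup K) ⊔ Q).trans h3.le
  exact ⟨hl.z_sq, hl.z_ne, S, hQS hl.z_mem, fun x hx => hcen x (hS hx), fun w hw _ hwc =>
    KFacts.LargeE.cent_eq hl (hcen w (hS hw)) (fun x hx => (hwc x (hQS hx)).symm)⟩

/-- the `p`-part of `|C|` is that of `|L|` for a homomorphism onto `L` whose kernel is a 2-group -/
theorem not_dvd_of_hom [Finite K] {C : Subgroup K} {Q : Subgroup K} {L : Type w} [Group L] (π : C →* L)
    (hπ : Function.Surjective π) (hQ : IsPGroup 2 Q) (hker : ∀ c : C, π c = 1 → (c : K) ∈ Q) {p k : ℕ}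
    (hp : p.Prime) (hp2 : p ≠ 2) (h : ¬ p ^ k ∣ Nat.card L) : ¬ p ^ k ∣ Nat.card C := by
  intro hd
  apply h
  have h1 : Nat.card π.ker * Nat.card L = Nat.card C := by
    rw [← Subgroup.card_mul_index π.ker, Subgroup.index_ker, MonoidHom.range_eq_top.2 hπ, card_top]
  have h2 : IsPGroup 2 π.ker := by
    have h3 : (π.ker).map C.subtype ≤ Q := by
      rintro _ ⟨c, hc, rfl⟩
      exact hker c hc
    have h4 : IsPGroup 2 ((π.ker).map C.subtype) := hQ.to_le h3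
    exact (h4.of_equiv ((π.ker).equivMapOfInjective C.subtype C.subtype_injective).symm)
  have hf2 : Fact (Nat.Prime 2) := ⟨Nat.prime_two⟩
  obtain ⟨a, ha⟩ := IsPGroup.iff_card.1 h2
  rw [← h1, ha] at hd
  have hc : (p ^ k).Coprime (2 ^ a) := Nat.Coprime.pow _ _ ((Nat.coprime_primes hp Nat.prime_two).2 hp2)
  exact hc.dvd_of_dvd_mul_left hd

/-- the check: `p ^ e` divides `|K|` but not `M` for the prime powers in the list -/
theorem dvd_two_of_list [Finite K] {z : K} (hu : UInv z) {p : ℕ} [hp : Fact p.Prime] {N : ℕ}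
    (hN : Nat.card K = N) (l : List (ℕ × ℕ)) (hl : ∀ q ∈ l, q.1 ^ q.2 ∣ N ∧ ¬ q.1 ^ q.2 ∣ Nat.card (centralizer ({z} : Set K)))
    (h : ∃ q ∈ l, q.1 = p) : p ∣ Nat.card (Sylow 2 K) := by
  obtain ⟨q, hq, rfl⟩ := h
  obtain ⟨h1, h2⟩ := hl q hq
  exact dvd_two_of_syl hu (k := q.2) (by rw [hN]; exact h1) h2

theorem dvd_two_large [Finite K] {Q : Subgroup K} {z : K} (hl : Cfsg.Agent.Co2Type.Quad.Large Q z)
    (hodd : Odd (centralizer ({z} : Set K)).index) {L : Type w} [Group L]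
    (π : centralizer ({z} : Set K) →* L) (hπ : Function.Surjective π)
    (hker : ∀ c : centralizer ({z} : Set K), π c = 1 → (c : K) ∈ Q) {p : ℕ} [hp : Fact p.Prime] (hp2 : p ≠ 2)
    {k : ℕ} (hk : p ^ k ∣ Nat.card K) (hc : ¬ p ^ k ∣ Nat.card L) : p ∣ Nat.card (Sylow 2 K) :=
  dvd_two_of_syl (uinv_of_large hl hodd) hk
    (not_dvd_of_hom π hπ (Cfsg.Agent.LargeExtra.Base.isPGroup hl) hker hp.out hp2 hc)

end Cfsg.Agent.H809.Syl
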