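import Mathlib
import Cfsg.Agent.H831.T8
import Cfsg.Agent.R08.X5Main

set_option autoImplicit false
set_option linter.style.haveILetI false
set_option linter.unusedSectionVars false
set_option linter.constructorNameAsVariable false

/-!
# The embedding of `Fi23` into a Fischer group of type `T8`

`(G, D)` of type `T8`, `x, b ∈ D` different and commuting: `Fi23` embeds into `G'` with the image
`C(x) ∩ G'`, with `z0 ↦ x b`; this is an embedding in the sense of `R08.X4Tau.Emb`.
-/

namespace Cfsg.Agent.H809.T8Emb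

open Cfsg Cfsg.Agent.SporadicStructure.FischerSpace Cfsg.Agent.ThreeTransPolar.Basic
open Cfsg.Agent.Fischer160.Inherit hiding Dx
open Cfsg.Agent.Fischer480.Defs hiding FGroup
open Cfsg.Agent.H831.Short Cfsg.Agent.H831.T8
open Cfsg.Agent.Fischer.Fi23Z (z0)
open Cfsg.Agent.Fischer.Fi23Class (K)
open Cfsg.Agent.Fischer.Fi23Cover (kgen)
open Cfsg.Agent.R08.FiTwentyThree (mem_K_iff zK)

universe u

/-! ### The centraliser of `K` in `Fi23` -/

theorem center_fi22 {y : Spor.Fi22} (hy : ∀ k, y * k = k * y) : y = 1 := by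
  haveI := Cfsg.Agent.R01.Fi22Facts.isSimple
  have h1 : y ∈ Subgroup.center Spor.Fi22 := Subgroup.mem_center_iff.2 (fun k => (hy k).symm)
  rcases (inferInstance : IsSimpleGroup Spor.Fi22).eq_bot_or_eq_top_of_normal
    (Subgroup.center Spor.Fi22) inferInstance with h2 | h2
  · rw [h2] at h1
    exact Subgroup.mem_bot.1 h1
  · exfalso
    have h3 := Cfsg.Agent.R01.Assembly23.perf
    rw [(commutator_eq_bot_iff_center_eq_top _).2 h2] at h3
    exact bot_ne_top h3

/-- the centraliser of `K = C(z0)` in `Fi23` -/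
theorem cent_K {y : Spor.Fi23} (hy : ∀ k : K, y * k = k * y) : y = 1 ∨ y = z0 := by
  have h1 : y ∈ K := (mem_K_iff y).2 (hy zK)
  have h2 : Cfsg.Agent.R08.FiTwentyThree.pi ⟨y, h1⟩ = 1 := by
    apply center_fi22
    intro k
    obtain ⟨k, rfl⟩ := Cfsg.Agent.R08.FiTwentyThree.pi_surjective k
    rw [← map_mul, ← map_mul]
    congr 1
    exact Subtype.ext (hy k)
  rcases (Cfsg.Agent.R08.FiTwentyThree.pi_ker _).1 h2 with h3 | h3
  · exact Or.inl (congrArg Subtype.val h3)
  · exact Or.inr (congrArg Subtype.val h3)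

variable {G : Type u} [Group G] {D : Set G}

section Eight

variable [Finite G] (F : FGroup D) (h : IsT8 D) {x b : G} (hx : x ∈ D) (hb : b ∈ Loc D x)

include F h hx hb

theorem noRel : NoRel D 7 := noRel_eight (isThree_of_fdata F.fd).1 h

/-- an element commuting with `x b` fixes or swaps `x` and `b` -/
theorem fix_or_swap {c : G} (hc : Commute c (x * b)) :
    (c * x * c⁻¹ = x ∧ c * b * c⁻¹ = b) ∨ (c * x * c⁻¹ = b ∧ c * b * c⁻¹ = x) := by
  have hxb : x ≠ b := fun h1 => hb.2.1 h1.symm
  have hcx := F.fd.conj c x hx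
  have hcb := F.fd.conj c b hb.1
  have hcom : Commute (c * x * c⁻¹) (c * b * c⁻¹) :=
    (FData.commute_conj_gen c x b).2 hb.2.2
  have hne : c * x * c⁻¹ ≠ c * b * c⁻¹ := fun h1 => hxb (mul_left_cancel (mul_right_cancel h1))
  have key := unique (isThree_of_fdata F.fd).1 (m := 2)
    ((noRel F h hx hb).mono (by norm_num)) (by norm_num) [x, b] [c * x * c⁻¹, c * b * c⁻¹]
    (by simp [hxb]) (by simp [hne]) (by simp) (by simp)
    (by
      intro a ha
      simp only [List.mem_cons, List.not_mem_nil, or_false] at ha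
      rcases ha with rfl | rfl
      · exact hx
      · exact hb.1)
    (by
      intro a ha
      simp only [List.mem_cons, List.not_mem_nil, or_false] at ha
      rcases ha with rfl | rfl
      · exact hcx
      · exact hcb)
    (by
      intro a ha a' ha'
      simp only [List.mem_cons, List.not_mem_nil, or_false] at ha ha'
      rcases ha with rfl | rfl <;> rcases ha' with rfl | rfl
      · exact Commute.refl _
      · exact hb.2.2
      · exact hb.2.2.symm
      · exact Commute.refl _)
    (by
      intro a ha a' ha'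
      simp only [List.mem_cons, List.not_mem_nil, or_false] at ha ha'
      rcases ha with rfl | rfl <;> rcases ha' with rfl | rfl
      · exact Commute.refl _
      · exact hcom
      · exact hcom.symm
      · exact Commute.refl _)
    (by
      simp only [List.prod_cons, List.prod_nil, mul_one]
      have : c * (x * b) * c⁻¹ = x * b := by rw [hc.eq, mul_inv_cancel_right]
      rw [← this]
      group)
  have h1 := (key (c * x * c⁻¹)).2 (by simp)
  have h2 := (key (c * b * c⁻¹)).2 (by simp)
  simp only [List.mem_cons, List.not_mem_nil, or_false] at h1 h2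
  rcases h1 with h1 | h1 <;> rcases h2 with h2 | h2
  · exact absurd (h1.trans h2.symm) hne
  · exact Or.inl ⟨h1, h2⟩
  · exact Or.inr ⟨h1, h2⟩
  · exact absurd (h1.trans h2.symm) hne

/-- **The embedding of `Fi23`** onto `C(x) ∩ G'` -/
theorem exists_theta : ∃ θ : Spor.Fi23 →* ↥(commutator G), Function.Injective θ ∧
    ((θ z0 : ↥(commutator G)) : G) = x * b ∧ (∀ y, Commute ((θ y : ↥(commutator G)) : G) x) ∧
    (∀ g : ↥(commutator G), Commute (g : G) x → ∃ y, θ y = g) := by
  have hbE : β D x b ∈ Eb D x := ⟨⟨b, mem_HH_of hb⟩, hb, by rw [β_of (mem_HH_of hb)]⟩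
  obtain ⟨e, he0, -, -⟩ := exists_iso_KK F h hx hbE
  obtain ⟨μ, hμ⟩ := exists_mulEquiv_cent F h hx ∅ (Set.empty_subset _)
  have htop : Subgroup.centralizer (β D x '' ∅) = ⊤ := by
    rw [eq_top_iff]
    intro g _
    rw [Subgroup.mem_centralizer_iff, Set.image_empty]
    intro y hy
    exact absurd hy (Set.notMem_empty y)
  have hmem : ∀ {g : G}, g ∈ commutator G ⊓ Subgroup.centralizer (insert x ∅) ↔
      g ∈ commutator G ∧ Commute g x := by
    intro g
    rw [Subgroup.mem_inf, show (insert x ∅ : Set G) = {x} from by simp,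
      Subgroup.mem_centralizer_singleton_iff]
    exact Iff.rfl
  let ι : ↥(commutator G ⊓ Subgroup.centralizer (insert x ∅)) →* ↥(commutator G) :=
    Subgroup.inclusion inf_le_left
  let j : KK D x →* ↥(Subgroup.centralizer (β D x '' ∅)) :=
    { toFun := fun k => ⟨k, by rw [htop]; trivial⟩
      map_one' := rfl
      map_mul' := fun _ _ => rfl }
  let θ : Spor.Fi23 →* ↥(commutator G) :=
    ι.comp (μ.symm.toMonoidHom.comp (j.comp e.toMonoidHom))
  have hθ : ∀ y, Commute ((θ y : ↥(commutator G)) : G) x := fun y =>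
    (hmem.1 (μ.symm (j (e y))).2).2
  have hθ2 : ∀ g : ↥(commutator G), Commute (g : G) x → ∀ y, e y = β D x (g : G) → θ y = g := by
    intro g hg y hy
    let g' : ↥(commutator G ⊓ Subgroup.centralizer (insert x ∅)) := ⟨g, hmem.2 ⟨g.2, hg⟩⟩
    have h1 : μ g' = j (e y) := Subtype.ext (by rw [hμ]; exact hy.symm)
    have h2 : μ.symm (j (e y)) = g' := by rw [← h1, μ.symm_apply_apply]
    show ι (μ.symm (j (e y))) = g
    rw [h2]
    rfl
  refine ⟨θ, ?_, ?_, hθ, ?_⟩
  · intro y y' hyy
    have h1 : μ.symm (j (e y)) = μ.symm (j (e y')) :=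
      Subgroup.inclusion_injective inf_le_left hyy
    have h2 := μ.symm.injective h1
    exact e.injective (congrArg Subtype.val h2)
  · have h1 := hθ2 ⟨x * b, mul_mem_commutator F hx hb.1⟩
      ((Commute.refl x).mul_left hb.2.2.symm) z0 (by
        rw [he0]
        show β D x b = β D x (x * b)
        rw [β_mul (mem_HH_self F h hx) (mem_HH_of hb), β_self F h hx, one_mul])
    rw [h1]
  · intro g hg
    exact ⟨e.symm (β D x (g : G)), hθ2 g hg _ (e.apply_symm_apply _)⟩

/-- there is an element of `G'` swapping `x` and `b` -/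
theorem exists_swap : ∃ c : ↥(commutator G), (c : G) * x * (c : G)⁻¹ = b ∧
    (c : G) * b * (c : G)⁻¹ = x := by
  obtain ⟨f, hf, h1, h2⟩ := (rk_of_FGroup F).both x hx b hb.1 hb.2.2
  obtain ⟨g, -, h3, h4⟩ :=
    Cfsg.Agent.SporadicStructure.FischerRank3.s4 F.fd hf hx hb.1 hb.2.2 h1 h2
  rcases mem_or F hx g with h5 | h5
  · exact ⟨⟨g, h5⟩, h3, h4⟩
  · refine ⟨⟨g * x, h5⟩, ?_, ?_⟩
    · show g * x * x * (g * x)⁻¹ = b
      rw [← h3]; group
    · show g * x * b * (g * x)⁻¹ = x
      rw [mul_assoc g x b, hb.2.2.eq]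
      nth_rewrite 3 [← h4]
      group

/-- a third member of `D` commuting with `x` and `b` -/
theorem exists_third : ∃ d ∈ D, d ≠ x ∧ d ≠ b ∧ Commute d x ∧ Commute d b := by
  have h7 := h.2.1 x hx
  have hb' : b ∈ Loc D x := hb
  have h6 := h7.2.1 b hb'
  have hne : (Loc (Loc D x) b).Nonempty := by
    by_contra hcon
    rw [Set.not_nonempty_iff_eq_empty] at hcon
    have := h6.1
    rw [hcon, Set.ncard_empty] at this
    omega
  obtain ⟨d, ⟨hd1, hd2, hd3⟩, hd4, hd5⟩ := hne
  exact ⟨d, hd1, hd2, hd4, hd3.symm, hd5.symm⟩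

/-- **The embedding in the sense of `X4Tau`.** -/
theorem emb {θ : Spor.Fi23 →* ↥(commutator G)} (hinj : Function.Injective θ)
    (hz : ((θ z0 : ↥(commutator G)) : G) = x * b)
    (hcx : ∀ y, Commute ((θ y : ↥(commutator G)) : G) x)
    (hsurj : ∀ g : ↥(commutator G), Commute (g : G) x → ∃ y, θ y = g) :
    Cfsg.Agent.R08.X4Tau.Emb θ (θ z0) := by
  have hxx := F.fd.sq x hx
  have hbx : b = x * (x * b) := by rw [← mul_assoc, hxx, one_mul]
  -- members of `θ K` commute with `x` and `b`
  have hKb : ∀ k : K, Commute ((θ k : ↥(commutator G)) : G) b := by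
    intro k
    have h1 : θ (k : Spor.Fi23) * θ z0 = θ z0 * θ (k : Spor.Fi23) := by
      rw [← map_mul, ← map_mul, (mem_K_iff _).1 k.2]
    have h2 : Commute ((θ k : ↥(commutator G)) : G) (x * b) := by
      rw [← hz]
      exact congrArg Subtype.val h1
    rw [hbx]
    exact (hcx k).mul_right h2
  have hsK : ∀ g : ↥(commutator G), Commute (g : G) x → Commute (g : G) b → ∃ k : K, θ k = g := by
    intro g h1 h2
    obtain ⟨y, rfl⟩ := hsurj g h1
    have h3 : y ∈ K := by
      rw [mem_K_iff]
      apply hinj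
      rw [map_mul, map_mul]
      apply Subtype.ext
      show ((θ y : ↥(commutator G)) : G) * _ = _ * _
      rw [hz]
      exact (h1.mul_right h2).eq
    exact ⟨⟨y, h3⟩, rfl⟩
  have hu : ∀ c : ↥(commutator G), c * θ z0 = θ z0 * c → Commute (c : G) (x * b) := by
    intro c hc
    rw [← hz]
    exact congrArg Subtype.val hc
  refine ⟨hinj, rfl, ?_, ?_, ?_⟩
  · intro c hc k
    have hfs := fix_or_swap F h hx hb (hu c hc)
    have key : ∀ t : G, Commute ((θ k : ↥(commutator G)) : G) t →
        Commute (((c * θ k * c⁻¹ : ↥(commutator G))) : G) ((c : G) * t * (c : G)⁻¹) := by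
      intro t ht
      exact (FData.commute_conj_gen (c : G) _ _).2 ht
    have h1 := key x (hcx k)
    have h2 := key b (hKb k)
    rcases hfs with ⟨h3, h4⟩ | ⟨h3, h4⟩
    · rw [h3] at h1
      rw [h4] at h2
      obtain ⟨k', hk'⟩ := hsK _ h1 h2
      exact ⟨k', hk'.symm⟩
    · rw [h3] at h1
      rw [h4] at h2
      obtain ⟨k', hk'⟩ := hsK _ h2 h1
      exact ⟨k', hk'.symm⟩
  · obtain ⟨c, h1, h2⟩ := exists_swap F h hx hb
    refine ⟨c, ?_, ?_⟩
    · apply Subtype.ext
      show (c : G) * _ = _ * (c : G)
      rw [hz]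
      have h3 : (c : G) * (x * b) * (c : G)⁻¹ = b * x := by
        calc (c : G) * (x * b) * (c : G)⁻¹ =
              ((c : G) * x * (c : G)⁻¹) * ((c : G) * b * (c : G)⁻¹) := by group
          _ = b * x := by rw [h1, h2]
      rw [← hb.2.2.eq] at h3
      exact mul_inv_eq_iff_eq_mul.1 h3
    · rintro k rfl
      apply hb.2.1
      rw [← h1, (hcx k).eq, mul_inv_cancel_right]
  · intro c hc
    have hcu : c * θ z0 = θ z0 * c := hc zK
    rcases fix_or_swap F h hx hb (hu c hcu) with ⟨h3, h4⟩ | ⟨h3, h4⟩
    · obtain ⟨y, rfl⟩ := hsurj c (mul_inv_eq_iff_eq_mul.1 h3)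
      have h5 : ∀ k : K, y * k = k * y := by
        intro k
        apply hinj
        rw [map_mul, map_mul]
        exact hc k
      rcases cent_K h5 with h6 | h6
      · left; rw [h6, map_one]
      · right; rw [h6]
    · exfalso
      obtain ⟨d, hd, hdx, hdb, hcdx, hcdb⟩ := exists_third F h hx hb
      obtain ⟨k, hk⟩ := hsK ⟨x * d, mul_mem_commutator F hx hd⟩
        ((Commute.refl x).mul_left hcdx) (hb.2.2.mul_left hcdb)
      have h5 : (c : G) * (x * d) = x * d * (c : G) := by
        have := congrArg Subtype.val (hc k)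
        rw [hk] at this
        exact this
      have h6 : (c : G) * d * (c : G)⁻¹ = b * x * d := by
        have h7 : ((c : G) * x * (c : G)⁻¹) * ((c : G) * d * (c : G)⁻¹) = x * d := by
          rw [show ((c : G) * x * (c : G)⁻¹) * ((c : G) * d * (c : G)⁻¹) =
            (c : G) * (x * d) * (c : G)⁻¹ by group, h5, mul_inv_cancel_right]
        rw [h3] at h7
        calc (c : G) * d * (c : G)⁻¹ = (b * b) * ((c : G) * d * (c : G)⁻¹) := by
              rw [F.fd.sq b hb.1, one_mul]
          _ = b * (b * ((c : G) * d * (c : G)⁻¹)) := by rw [mul_assoc]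
          _ = b * x * d := by rw [h7, mul_assoc]
      set d' : G := (c : G) * d * (c : G)⁻¹ with hd'
      have hd'D : d' ∈ D := F.fd.conj _ d hd
      have cb : Commute d' b := by
        rw [h6]
        exact ((Commute.refl b).mul_left hb.2.2).mul_left hcdb
      have cx : Commute d' x := by
        rw [h6]
        exact (hb.2.2.symm.mul_left (Commute.refl x)).mul_left hcdx
      have cd : Commute d' d := by
        rw [h6]
        exact (hcdb.symm.mul_left hcdx.symm).mul_left (Commute.refl d)
      have hxb : x ≠ b := fun h1 => hb.2.1 h1.symm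
      have n1 : d' ≠ b := by
        intro h7
        rw [h7, mul_assoc] at h6
        have h8 : x * d = 1 := by
          have := h6.symm
          rwa [mul_eq_left] at this
        apply hdx
        rw [eq_comm, ← F.fd.inv_eq hd]
        exact eq_inv_of_mul_eq_one_left h8
      have n2 : d' ≠ x := by
        intro h7
        rw [h7, hb.2.2.symm.eq, mul_assoc] at h6
        have h8 : b * d = 1 := by
          have := h6.symm
          rwa [mul_eq_left] at this
        apply hdb
        rw [eq_comm, ← F.fd.inv_eq hd]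
        exact eq_inv_of_mul_eq_one_left h8
      have n3 : d' ≠ d := by
        intro h7
        rw [h7] at h6
        have h8 : b * x = 1 := by
          have := h6.symm
          rwa [mul_eq_right] at this
        apply hxb
        rw [eq_comm, ← F.fd.inv_eq hx]
        exact eq_inv_of_mul_eq_one_left h8
      have := noRel F h hx hb [d', b, x, d] (by
          simp only [List.nodup_cons, List.mem_cons, List.not_mem_nil, or_false, not_or,
            List.nodup_nil, and_true, not_false_eq_true]
          exact ⟨⟨n1, n2, n3⟩, ⟨hb.2.1, fun h7 => hdb h7.symm⟩, fun h7 => hdx h7.symm⟩) (by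
          simp only [List.mem_cons, List.not_mem_nil, or_false]
          rintro a (rfl | rfl | rfl | rfl)
          exacts [hd'D, hb.1, hx, hd]) (by
          simp only [List.mem_cons, List.not_mem_nil, or_false]
          rintro a (rfl | rfl | rfl | rfl) a' (rfl | rfl | rfl | rfl)
          exacts [Commute.refl _, cb, cx, cd, cb.symm, Commute.refl _, hb.2.2.symm, hcdb.symm,
            cx.symm, hb.2.2, Commute.refl _, hcdx.symm, cd.symm, hcdb, hcdx, Commute.refl _]) (by
          simp only [List.prod_cons, List.prod_nil, mul_one]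
          rw [← mul_assoc b x d, ← h6]
          exact F.fd.sq d' hd'D) (by simp)
      exact absurd this (by simp)

end Eight

end Cfsg.Agent.H809.T8Emb
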