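import Mathlib
import Cfsg.Prelude.Def_FischerSpaces
import Cfsg.Agent.Fischer480.Defs
import Cfsg.Agent.Fischer545.Herm6

set_option autoImplicit false
set_option linter.unusedSectionVars false

/-!
# The width of a set of 3-transpositions

`HasWidth D w`: the largest commuting subsets of `D` have `w` members.  The types `T6`, `T7`, `T8` have
widths 22, 23, 24.
-/

namespace Cfsg.Agent.H809.Width

open Cfsg Cfsg.Agent.Fischer480.Defs Cfsg.Agent.Fischer545.Herm6
open Cfsg.Agent.LieClassical.HermBasic

universe u v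

section general

variable {G : Type u} {H : Type v} [Group G] [Group H]

/-- commuting subsets -/
def Clique (E : Set G) : Prop := ∀ a ∈ E, ∀ b ∈ E, Commute a b

/-- the largest commuting subsets of `D` have `w` members -/
structure HasWidth (D : Set G) (w : ℕ) : Prop where
  ex : ∃ E, E ⊆ D ∧ E.Finite ∧ Clique E ∧ E.ncard = w
  le : ∀ E, E ⊆ D → E.Finite → Clique E → E.ncard ≤ w

theorem HasWidth.commutingWidth_eq {D : Set G} {w : ℕ} (h : HasWidth D w) :
    commutingWidth D = w := by
  have : IsGreatest {n : ℕ | ∃ E : Set G, E ⊆ D ∧ E.Finite ∧ (∀ a ∈ E, ∀ b ∈ E, Commute a b) ∧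
      E.ncard = n} w := by
    refine ⟨?_, ?_⟩
    · obtain ⟨E, h1, h2, h3, h4⟩ := h.ex
      exact ⟨E, h1, h2, h3, h4⟩
    · rintro n ⟨E, h1, h2, h3, rfl⟩
      exact h.le E h1 h2 h3
  exact this.csSup_eq

theorem HasWidth.unique {D : Set G} {w w' : ℕ} (h : HasWidth D w) (h' : HasWidth D w') : w = w' := by
  rw [← h.commutingWidth_eq, h'.commutingWidth_eq]

/-- Commutation preserving bijections preserve the width. -/
theorem HasWidth.cIso {D : Set G} {D' : Set H} {w : ℕ} (h : HasWidth D w) (e : CIso D D') :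
    HasWidth D' w := by
  obtain ⟨φ, hφ, hc⟩ := e
  refine ⟨?_, ?_⟩
  · obtain ⟨E, h1, h2, h3, h4⟩ := h.ex
    refine ⟨φ '' E, ?_, h2.image φ, ?_, ?_⟩
    · rintro _ ⟨x, hx, rfl⟩
      exact hφ.mapsTo (h1 hx)
    · rintro _ ⟨x, hx, rfl⟩ _ ⟨y, hy, rfl⟩
      exact (hc x (h1 hx) y (h1 hy)).1 (h3 x hx y hy)
    · rw [Set.InjOn.ncard_image (hφ.injOn.mono h1), h4]
  · intro E h1 h2 h3
    have h5 : φ '' (D ∩ φ ⁻¹' E) = E := by
      ext y
      constructor
      · rintro ⟨x, hx, rfl⟩
        exact hx.2
      · intro hy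
        obtain ⟨x, hx, rfl⟩ := hφ.surjOn (h1 hy)
        exact ⟨x, ⟨hx, hy⟩, rfl⟩
    have hinj : Set.InjOn φ (D ∩ φ ⁻¹' E) := hφ.injOn.mono Set.inter_subset_left
    have h6 : (D ∩ φ ⁻¹' E).Finite := Set.Finite.of_finite_image (by rw [h5]; exact h2) hinj
    rw [← h5, Set.InjOn.ncard_image hinj]
    refine h.le _ Set.inter_subset_left h6 ?_
    intro a ha b hb
    exact (hc a ha.1 b hb.1).2 (h3 _ ha.2 _ hb.2)

/-- From the local sets to `D`. -/
theorem hasWidth_succ {D : Set G} {w : ℕ} (hne : D.Nonempty)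
    (h : ∀ x ∈ D, HasWidth (Loc D x) w) : HasWidth D (w + 1) := by
  refine ⟨?_, ?_⟩
  · obtain ⟨x, hx⟩ := hne
    obtain ⟨E, h1, h2, h3, h4⟩ := (h x hx).ex
    have hxE : x ∉ E := fun hxE => (h1 hxE).2.1 rfl
    refine ⟨insert x E, ?_, h2.insert x, ?_, ?_⟩
    · rintro y (rfl | hy)
      · exact hx
      · exact (h1 hy).1
    · rintro a (rfl | ha) b (rfl | hb)
      · exact Commute.refl _
      · exact (h1 hb).2.2
      · exact (h1 ha).2.2.symm
      · exact h3 a ha b hb
    · rw [Set.ncard_insert_of_notMem hxE h2, h4]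
  · intro E h1 h2 h3
    rcases E.eq_empty_or_nonempty with rfl | ⟨x, hx⟩
    · simp
    · have h5 := (h x (h1 hx)).le (E \ {x}) (fun y hy => ⟨h1 hy.1, hy.2, h3 x hx y hy.1⟩)
        h2.sdiff (fun a ha b hb => h3 a ha.1 b hb.1)
      have h6 := Set.ncard_sdiff_singleton_add_one hx h2
      omega

end general

section unitary

variable {F : Type*} [Field F] [Fintype F]

/-- a totally isotropic subspace of dimension 3 -/
def f6 (g : Fin 3 → F) : Fin 6 → F := ![g 0, g 0, g 1, g 1, g 2, g 2]

theorem f6_injective : Function.Injective (f6 (F := F)) := by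
  intro g g' h
  funext i
  fin_cases i
  · exact congrFun h 0
  · exact congrFun h 2
  · exact congrFun h 4

theorem two_zero (hF : Fintype.card F = 4) : (2 : F) = 0 := by
  have h1 : ((4 : ℕ) : F) = 0 := by
    rw [← hF]; exact Nat.cast_card_eq_zero F
  have h2 : (2 : F) * 2 = 0 := by
    rw [← h1]; norm_num
  exact mul_self_eq_zero.1 h2

theorem herm_f6 (hF : Fintype.card F = 4) (g g' : Fin 3 → F) :
    hermForm 6 F 2 (f6 g) (f6 g') = 0 := by
  rw [herm_def, Fin.sum_univ_six]
  simp only [f6, Matrix.cons_val]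
  linear_combination (g 0 * g' 0 ^ 2 + g 1 * g' 1 ^ 2 + g 2 * g' 2 ^ 2) * two_zero hF

/-- the width of the unitary type of dimension 6 -/
theorem hasWidth_isU_six {G : Type u} [Group G] {E : Set G} (h : IsU 6 E) : HasWidth E 21 := by
  classical
  obtain ⟨F, i1, i2, f, hF, hne, hiso, hcomm, hinj, hsurj⟩ := h
  have hF2 : Fintype.card F = 2 ^ 2 := by rw [hF]; norm_num
  -- elements of `E` with vectors in `W`, counted with their multiples
  have hfin : E.Finite := by
    apply Set.Finite.of_finite_image (f := f) (Set.toFinite _)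
    intro x hx y hy hxy
    exact hinj x hx y hy 1 (by rw [one_smul]; exact hxy)
  have hdiv : ∀ x ∈ E, ∀ y ∈ E, ∀ c d : F, c ≠ 0 → c • f x = d • f y → x = y ∧ c = d := by
    intro x hx y hy c d hc hcd
    have h1 : x = y := by
      apply hinj x hx y hy (c⁻¹ * d)
      rw [mul_smul, ← hcd, smul_smul, inv_mul_cancel₀ hc, one_smul]
    subst h1
    exact ⟨rfl, smul_left_injective F (hne x hx) hcd⟩
  have hU : Nat.card Fˣ = 3 := by
    rw [Nat.card_eq_fintype_card, Fintype.card_units, hF]
  refine ⟨?_, ?_⟩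
  · -- the members with vectors of the form `f6 g`
    set E' : Set G := {x | x ∈ E ∧ f x ∈ Set.range (f6 (F := F))} with hE'
    have hE'fin : E'.Finite := hfin.subset (fun x hx => hx.1)
    have hcl : Clique E' := by
      rintro a ⟨ha, g, hg⟩ b ⟨hb, g', hg'⟩
      rw [hcomm a ha b hb, ← hg, ← hg']
      exact herm_f6 hF g g'
    -- bijection `E' × Fˣ → nonzero vectors of W`
    have hcount : E'.ncard * 3 = 63 := by
      have e1 : Nat.card ({g : Fin 3 → F // g ≠ 0}) = 63 := by
        rw [Nat.card_eq_fintype_card, Fintype.card_subtype_compl, Fintype.card_subtype_eq,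
          Fintype.card_fun, hF, Fintype.card_fin]
        norm_num
      have e2 : Nat.card (E' × Fˣ) = E'.ncard * 3 := by
        rw [Nat.card_prod, hU, Nat.card_coe_set_eq]
      rw [← e1, ← e2]
      choose! gg hgg using (fun x (hx : x ∈ E') => hx.2)
      have hgg0 : ∀ x ∈ E', gg x ≠ 0 := by
        intro x hx h0
        apply hne x hx.1
        rw [← hgg x hx, h0]
        funext i
        fin_cases i <;> rfl
      have hsm : ∀ (c : F) (g : Fin 3 → F), c • f6 g = f6 (c • g) := by
        intro c g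
        funext i
        fin_cases i <;> rfl
      apply Nat.card_congr
      refine Equiv.ofBijective (fun p => ⟨(p.2 : F) • gg p.1, smul_ne_zero p.2.ne_zero
        (hgg0 _ p.1.2)⟩) ⟨?_, ?_⟩
      · rintro ⟨⟨x, hx⟩, c⟩ ⟨⟨y, hy⟩, d⟩ hxy
        have h1 : (c : F) • gg x = (d : F) • gg y := congrArg Subtype.val hxy
        have h2 : (c : F) • f x = (d : F) • f y := by
          rw [← hgg x hx, ← hgg y hy, hsm, hsm, h1]
        obtain ⟨h3, h4⟩ := hdiv x hx.1 y hy.1 c d c.ne_zero h2
        subst h3
        have h5 : c = d := Units.ext h4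
        subst h5
        rfl
      · rintro ⟨g, hg⟩
        have h0 : f6 g ≠ 0 := by
          intro h0
          apply hg
          apply f6_injective
          rw [h0]
          funext i
          fin_cases i <;> rfl
        obtain ⟨x, hx, c, hc⟩ := hsurj (f6 g) h0 (herm_f6 hF g g)
        have hc0 : c ≠ 0 := by
          rintro rfl
          rw [zero_smul] at hc
          exact h0 hc
        have hxE' : x ∈ E' := by
          refine ⟨hx, c⁻¹ • g, ?_⟩
          rw [← hsm, hc, smul_smul, inv_mul_cancel₀ hc0, one_smul]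
        refine ⟨(⟨x, hxE'⟩, Units.mk0 c hc0), ?_⟩
        apply Subtype.ext
        show c • gg x = g
        apply f6_injective
        rw [← hsm, hgg x hxE', hc]
    exact ⟨E', fun x hx => hx.1, hE'fin, hcl, by omega⟩
  · intro E' h1 h2 h3
    -- the span
    set W : Submodule F (Fin 6 → F) := Submodule.span F (f '' E') with hW
    have hTI : TI W := by
      have key : ∀ u ∈ f '' E', ∀ v ∈ W, hermForm 6 F 2 u v = 0 := by
        rintro _ ⟨a, ha, rfl⟩ v hv
        induction hv using Submodule.span_induction with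
        | mem x hx =>
          obtain ⟨b, hb, rfl⟩ := hx
          exact (hcomm a (h1 ha) b (h1 hb)).1 (h3 a ha b hb)
        | zero => exact herm_zero_right hF2 _
        | add x y _ _ hx hy => rw [herm_add_right hF2, hx, hy, add_zero]
        | smul c x _ hx => rw [herm_smul_right, hx, mul_zero]
      intro u hu v hv
      induction hu using Submodule.span_induction with
      | mem x hx => exact key x hx v hv
      | zero => exact herm_zero_left _
      | add x y _ _ hx hy => rw [herm_add_left, hx, hy, add_zero]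
      | smul c x _ hx => rw [herm_smul_left, hx, mul_zero]
    have hr := finrank_le hF2 hTI
    have hcardW : Nat.card W ≤ 64 := by
      rw [Module.natCard_eq_pow_finrank (K := F), Nat.card_eq_fintype_card (α := F), hF]
      calc 4 ^ Module.finrank F W ≤ 4 ^ 3 := Nat.pow_le_pow_right (by norm_num) hr
        _ = 64 := by norm_num
    have hnz : Nat.card {w : W // w ≠ 0} + 1 ≤ 64 := by
      rw [Nat.card_eq_fintype_card] at hcardW
      rw [Nat.card_eq_fintype_card, Fintype.card_subtype_compl, Fintype.card_subtype_eq]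
      have : 0 < Fintype.card W := Fintype.card_pos
      omega
    have hle : Nat.card (E' × Fˣ) ≤ Nat.card {w : W // w ≠ 0} := by
      have hmem : ∀ x ∈ E', f x ∈ W := fun x hx => Submodule.subset_span ⟨x, hx, rfl⟩
      refine Nat.card_le_card_of_injective (fun p => ⟨⟨(p.2 : F) • f p.1,
        W.smul_mem _ (hmem _ p.1.2)⟩, ?_⟩) ?_
      · intro h0
        have h5 : (p.2 : F) • f p.1 = 0 := congrArg Subtype.val h0
        exact smul_ne_zero p.2.ne_zero (hne _ (h1 p.1.2)) h5
      · rintro ⟨⟨x, hx⟩, c⟩ ⟨⟨y, hy⟩, d⟩ hxy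
        have h5 : (c : F) • f x = (d : F) • f y :=
          congrArg Subtype.val (congrArg Subtype.val hxy)
        obtain ⟨h6, h7⟩ := hdiv x (h1 hx) y (h1 hy) c d c.ne_zero h5
        subst h6
        have h8 : c = d := Units.ext h7
        subst h8
        rfl
    rw [Nat.card_prod, hU, Nat.card_coe_set_eq] at hle
    omega

end unitary

section types

variable {G : Type u} [Group G] {D : Set G}

theorem nonempty_of_ncard {D : Set G} {n : ℕ} (h : D.ncard = n) (hn : n ≠ 0) : D.Nonempty := by
  by_contra hc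
  rw [Set.not_nonempty_iff_eq_empty] at hc
  rw [hc, Set.ncard_empty] at h
  exact hn h.symm

/-- **type `T6` has width 22** -/
theorem hasWidth_T6 (h : IsT6 D) : HasWidth D 22 :=
  hasWidth_succ (nonempty_of_ncard h.1 (by norm_num)) (fun x hx => hasWidth_isU_six (h.2.1 x hx))

/-- **type `T7` has width 23** -/
theorem hasWidth_T7 (h : IsT7 D) : HasWidth D 23 :=
  hasWidth_succ (nonempty_of_ncard h.1 (by norm_num)) (fun x hx => hasWidth_T6 (h.2.1 x hx))

/-- **type `T8` has width 24** -/
theorem hasWidth_T8 (h : IsT8 D) : HasWidth D 24 :=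
  hasWidth_succ (nonempty_of_ncard h.1 (by norm_num)) (fun x hx => hasWidth_T7 (h.2.1 x hx))

end types

end Cfsg.Agent.H809.Width
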